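import Cfsg.Agent.DCoset.Count

/-!
A model from an action on points.  The images of the base tell the elements apart as soon as a
chain of words accounts for the whole group.
-/

namespace Cfsg.Agent.DCoset

open Cfsg.Agent.CosetCert

/-- Pack `k` fields of 16 bits. -/
def pk16 : Nat → (Nat → Nat) → Nat
  | 0, _ => 0
  | k + 1, h => h 0 + 65536 * pk16 k fun i => h (i + 1)

theorem pk16_congr : ∀ (k : Nat) {h h' : Nat → Nat}, (∀ l, l < k → h l = h' l) →
    pk16 k h = pk16 k h'
  | 0, _, _, _ => rfl
  | k + 1, h, h', e => by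
    rw [pk16, pk16, e 0 (by omega), pk16_congr k fun l hl => e (l + 1) (by omega)]

theorem mapTup_pk16 (f : Nat → Nat) : ∀ (k : Nat) (h : Nat → Nat), (∀ i, h i < 65536) →
    mapTup f k (pk16 k h) = pk16 k fun i => f (h i)
  | 0, _, _ => rfl
  | k + 1, h, hh => by
    have h0 := hh 0
    rw [mapTup_succ, pk16, Nat.add_mul_mod_self_left, Nat.mod_eq_of_lt h0,
      Nat.add_mul_div_left _ _ (by norm_num : 0 < 65536), Nat.div_eq_of_lt h0, Nat.zero_add,
      mapTup_pk16 f k _ fun i => hh (i + 1)]
    rfl

theorem fld_pk16 : ∀ (k : Nat) (h : Nat → Nat), (∀ i, h i < 65536) → ∀ l, l < k →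
    fld (pk16 k h) l = h l := by
  have e : ∀ v l, fld v l = v / 65536 ^ l % 65536 := fun v l => by
    show (v >>> (16 * l)) % 65536 = _
    rw [Nat.shiftRight_eq_div_pow, Nat.pow_mul]
  intro k
  induction k with
  | zero => intros; omega
  | succ k ih =>
    intro h hh l hl
    have h0 := hh 0
    rw [e, pk16]
    cases l with
    | zero => simp only [Nat.pow_zero, Nat.div_one]; omega
    | succ l =>
      have := ih (fun i => h (i + 1)) (fun i => hh _) l (by omega)
      rw [e] at this
      rw [Nat.pow_succ', ← Nat.div_div_eq_div_mul, show (h 0 + 65536 * pk16 k fun i => h (i + 1)) / 65536 =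
        pk16 k fun i => h (i + 1) by omega]
      exact this

/-- Letters acting as the permutations of a group element, and a base. -/
structure Acts {Q : Type*} [Group Q] {N : Nat} (ρ : Q →* Equiv.Perm (Fin N)) (M : Tab)
    (q : Nat → Q) (bp : Nat → Fin N) : Prop where
  small : N ≤ 65536
  act_eq : ∀ g, g < M.nL → ∀ p : Fin N, M.act g p.val = ((ρ (q g))⁻¹ p).val
  act_lt : ∀ g p, M.act g p < 65536
  base_eq : M.base = pk16 M.k fun l => (bp l).val

namespace Acts

variable {Q : Type*} [Group Q] {N : Nat} {ρ : Q →* Equiv.Perm (Fin N)} {M : Tab} {q : Nat → Q}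
  {bp : Nat → Fin N} (A : Acts ρ M q bp)

include A

theorem pt_lt (p : Fin N) : p.val < 65536 := lt_of_lt_of_le p.isLt A.small

theorem fld_base {l : Nat} (hl : l < M.k) : fld M.base l = (bp l).val := by
  rw [A.base_eq, fld_pk16 _ _ (fun i => A.pt_lt _) _ hl]

theorem foldW_eq : ∀ n w (p : Fin N), lettersBelow M.nL n w = true →
    foldW M.act n w p.val = ((ρ (valW q n w))⁻¹ p).val
  | 0, _, p, _ => by simp [valW, foldW]
  | n + 1, w, p, hl => by
    rw [lettersBelow_succ, Bool.and_eq_true] at hl
    rw [foldW_succ, A.act_eq _ (Nat.ble_eq.mp hl.1), foldW_eq n _ _ hl.2, valW, map_mul]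
    simp [mul_inv_rev]

/-- A chain that accounts for the whole group shows that the base determines the element. -/
theorem faithful [Finite Q] (C : QModel.Chain) {NQ : Nat} (hQ : Nat.card Q ≤ NQ)
    (hNQ : ((List.range M.k).map C.size).prod = NQ)
    (hg : ∀ l a, l < M.k → a < C.nGen l → QModel.checkGen M C l a = true)
    (hp : ∀ l m, l < M.k → m < C.size l → QModel.checkPt M C l m = true) :
    ∀ a : Q, (∀ l, l < M.k → (ρ a)⁻¹ (bp l) = bp l) → a = 1 := by
  classical
  let F : Nat → Set Q := fun l => {s | ∀ b, b < l → (ρ s)⁻¹ (bp b) = bp b}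
  have hone : ∀ l, (1 : Q) ∈ F l := fun l b _ => by simp
  have hmul : ∀ l {s t : Q}, s ∈ F l → t ∈ F l → s * t ∈ F l := fun l s t hs ht b hb => by
    rw [map_mul, mul_inv_rev, Equiv.Perm.mul_apply, hs b hb, ht b hb]
  have htrans : ∀ l, l < M.k → ∀ m, m < C.size l → ∃ t : Q, t ∈ F l ∧
      ((ρ t)⁻¹ (bp l)).val = C.pt l m := by
    intro l hl m
    induction m using Nat.strong_induction_on with
    | _ m ih =>
      intro hm
      have h := hp l m hl hm
      simp only [QModel.checkPt, force_eq, gate_eq, Bool.and_eq_true] at h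
      obtain ⟨-, h⟩ := h
      rcases Nat.eq_zero_or_pos m with rfl | hm0
      · refine ⟨1, hone l, ?_⟩
        have h := Nat.eq_of_beq_eq_true h
        rw [A.fld_base hl] at h
        simp [h]
      · have hb : Nat.beq m 0 = false := by
          cases hb : Nat.beq m 0
          · rfl
          · exact absurd (Nat.eq_of_beq_eq_true hb) (by omega)
        rw [hb] at h
        simp only [Bool.and_eq_true] at h
        obtain ⟨hr, ha, he⟩ := h
        have ha' := Nat.ble_eq.mp ha
        obtain ⟨t, ht, hts⟩ := ih _ (Nat.ble_eq.mp hr) (by have := Nat.ble_eq.mp hr; omega)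
        have hgen := hg l _ hl ha'
        simp only [QModel.checkGen, force_eq, gate_eq, Bool.and_eq_true] at hgen
        obtain ⟨hlet, hfix⟩ := hgen
        let w := C.gen l (C.via l m)
        have hfold : ∀ p : Fin N, actW M.act p.val w =
            ((ρ (valW q (w % 65536) (w / 65536)))⁻¹ p).val := fun p => A.foldW_eq _ _ p hlet
        refine ⟨t * valW q (w % 65536) (w / 65536), hmul l ht fun b hb => Fin.ext ?_, ?_⟩
        · have e := Nat.eq_of_beq_eq_true ((allFrom_iff _ _ _).1 hfix b (Nat.zero_le _) (by omega))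
          rw [A.fld_base (by omega), hfold] at e
          exact e
        · have e := Nat.eq_of_beq_eq_true he
          rw [← hts, hfold] at e
          rw [map_mul, mul_inv_rev, Equiv.Perm.mul_apply]
          exact e
  have key : ∀ d l, l + d = M.k →
      ((List.range' l d).map C.size).prod * Nat.card (F M.k) ≤ Nat.card (F l) := by
    intro d
    induction d with
    | zero => intro l hl; simp [show l = M.k by omega]
    | succ d ih =>
      intro l hl
      rw [List.range'_succ, List.map_cons, List.prod_cons, mul_assoc]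
      refine le_trans (Nat.mul_le_mul_left _ (ih (l + 1) (by omega))) ?_
      choose t ht htp using fun m : Fin (C.size l) => htrans l (by omega) m.1 m.2
      have hmemF : ∀ s : F (l + 1), (s : Q) ∈ F l := fun s b hb => s.2 b (by omega)
      let Φ : Fin (C.size l) × F (l + 1) → F l :=
        fun x => ⟨(x.2 : Q) * t x.1, hmul l (hmemF x.2) (ht x.1)⟩
      have hΦ : Function.Injective Φ := by
        rintro ⟨m, s⟩ ⟨m', s'⟩ he
        have he' : (s : Q) * t m = s' * t m' := congrArg Subtype.val he
        have e : ((ρ ((s : Q) * t m))⁻¹ (bp l)).val = ((ρ ((s' : Q) * t m'))⁻¹ (bp l)).val := by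
          rw [he']
        simp only [map_mul, mul_inv_rev, Equiv.Perm.mul_apply, s.2 l (by omega),
          s'.2 l (by omega), htp] at e
        have hmm : m = m' := by
          apply Fin.ext
          have a1 := hp l m.1 (by omega) m.2
          have a2 := hp l m'.1 (by omega) m'.2
          simp only [QModel.checkPt, force_eq, gate_eq, Bool.and_eq_true] at a1 a2
          rw [← Nat.eq_of_beq_eq_true a1.1, e, Nat.eq_of_beq_eq_true a2.1]
        subst hmm
        exact Prod.ext rfl (Subtype.ext (mul_right_cancel he'))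
      simpa using Nat.card_le_card_of_injective Φ hΦ
  intro a ha
  have h0 := le_trans (key M.k 0 (Nat.zero_add _))
    (Nat.card_le_card_of_injective (Subtype.val : F 0 → Q) Subtype.val_injective)
  rw [← List.range_eq_range', hNQ] at h0
  by_contra hne
  have h2 : 2 ≤ Nat.card (F M.k) := by
    have hi : Function.Injective (fun i : Fin 2 =>
        if i = 0 then (⟨1, hone _⟩ : F M.k) else ⟨a, ha⟩) := by
      intro i j h
      fin_cases i <;> fin_cases j <;> simp [Subtype.ext_iff, eq_comm] at h ⊢ <;>
        first | exact hne h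
    simpa using Nat.card_le_card_of_injective _ hi
  have hpos : 0 < Nat.card Q := Nat.card_pos
  nlinarith

end Acts

/-- The model given by the points. -/
def Acts.toQModel {Q : Type*} [Group Q] {N : Nat} {ρ : Q →* Equiv.Perm (Fin N)} {M : Tab}
    {q : Nat → Q} {bp : Nat → Fin N} (A : Acts ρ M q bp)
    (hf : ∀ a : Q, (∀ l, l < M.k → (ρ a)⁻¹ (bp l) = bp l) → a = 1) : QModel Q where
  toTab := M
  q := q
  tup a := pk16 M.k fun l => ((ρ a)⁻¹ (bp l)).val
  one := by simp [A.base_eq]
  step a g hg := by
    rw [mapTup_pk16 _ _ _ fun i => A.pt_lt _]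
    refine pk16_congr _ fun l _ => ?_
    rw [A.act_eq g hg, map_mul, mul_inv_rev, Equiv.Perm.mul_apply]
  inj a b h := by
    have e : ∀ l, l < M.k → (ρ a)⁻¹ (bp l) = (ρ b)⁻¹ (bp l) := by
      intro l hl
      have := congrArg (fun v => fld v l) h
      simp only [fld_pk16 _ _ (fun i => A.pt_lt _) _ hl] at this
      exact Fin.ext this
    have h1 : a * b⁻¹ = 1 := hf _ fun l hl => by
      rw [map_mul, mul_inv_rev, Equiv.Perm.mul_apply, e l hl, map_inv, inv_inv]
      exact Equiv.apply_symm_apply (ρ b) _
    exact mul_inv_eq_one.1 h1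
  act_lt := A.act_lt

end Cfsg.Agent.DCoset
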