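import Cfsg.Agent.DCoset.Cover

/-! Getters used by generated double coset certificates. -/

namespace Cfsg.Agent.DCoset

open Cfsg.Agent.CosetCert

/-- Entries of 16 bits, 128 to a leaf. -/
noncomputable def get16 (S : Store) (i : Nat) : Nat :=
  force (S.get (Nat.div i 128)) fun v =>
    Nat.mod (Nat.shiftRight v (Nat.mul 16 (Nat.mod i 128))) 65536

theorem get16_lt (S : Store) (i : Nat) : get16 S i < 65536 := by
  rw [get16, force_eq]
  exact Nat.mod_lt _ (by norm_num)

/-- Row `a` of a list of stores, `w` entries to a row, one entry to a leaf. -/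
noncomputable def get2 (S : Store) (w a b : Nat) : Nat := S.get (Nat.add (Nat.mul a w) b)

/-- Entries of `b` bits, 16 to a leaf. -/
noncomputable def getN (b : Nat) (S : Store) (i : Nat) : Nat :=
  force (S.get (Nat.div i 16)) fun v =>
    Nat.mod (Nat.shiftRight v (Nat.mul b (Nat.mod i 16))) (Nat.pow 2 b)

/-- Checks given in pieces of one range. -/
theorem allFrom_append {p : Nat → Bool} {n : Nat} (a : Nat) (h : allFrom p 0 a = true)
    (h' : allFrom p a n = true) : allFrom p 0 (a + n) = true := by
  rw [allFrom_iff] at h h' ⊢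
  intro i _ hi
  rcases Nat.lt_or_ge i a with hlt | hge
  · exact h i (Nat.zero_le _) (by omega)
  · exact h' i hge (by omega)

theorem allFrom_all {p : Nat → Bool} {n : Nat} (h : allFrom p 0 n = true) {i : Nat} (hi : i < n) :
    p i = true := (allFrom_iff p 0 n).1 h i (Nat.zero_le _) (by omega)

end Cfsg.Agent.DCoset
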