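import Cfsg.Agent.DCoset.Model

/-!
Derivations of equations between cosets, one step at a time.

Besides the letters of the model there are finitely many extra letters `T τ`, `T 0 = 1`.
A fact `(i, h, τ, j, k)` says that the cosets of `g i * h * T τ` and `g j * k` are equal.
-/

namespace Cfsg.Agent.DCoset

open Cfsg.Agent.CosetCert

/-- The unchanging part of a certificate: rules, tables and relators. -/
structure Rules where
  /-- number of extra letters -/
  nT : Nat
  /-- `T τ * T (invT τ) = 1` -/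
  invT : Nat → Nat
  /-- `T σ * T τ = T ρ` if `mulT σ τ = ρ + 1` -/
  mulT : Nat → Nat → Nat
  /-- number of rules `T (rS r) * rV r = rU r * T (rD r)` -/
  nRule : Nat
  rS : Nat → Nat
  rD : Nat → Nat
  rU : Nat → Nat
  rV : Nat → Nat
  /-- number of relators `T (hd) * (w₁ * T τ₁) * ⋯ * (wₘ * T τₘ) = tl` -/
  nRel : Nat
  relHd : Nat → Nat
  /-- `m` -/
  relLen : Nat → Nat
  relW : Nat → Nat → Nat
  relT : Nat → Nat → Nat
  relTl : Nat → Nat

/-- The derivation: node representatives, and for each step its kind, arguments and result. -/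
structure Steps where
  nNode : Nat
  nodeSrc : Nat → Nat
  nodeW : Nat → Nat
  nodeT : Nat → Nat
  len : Nat
  kind : Nat → Nat
  argA : Nat → Nat
  argB : Nat → Nat
  /-- word, or packed list of facts for a relator step -/
  argW : Nat → Nat
  fI : Nat → Nat
  fH : Nat → Nat
  fT : Nat → Nat
  fJ : Nat → Nat
  fK : Nat → Nat

variable {G : Type*} [Group G]

/-- The meaning of a rule table. -/
structure Rules.Sound (L : Rules) (M : Model G) (T : Nat → G) : Prop where
  T_zero : T 0 = 1
  inv_eq : ∀ τ, τ < L.nT → L.invT τ < L.nT ∧ T τ * T (L.invT τ) = 1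
  mul_eq : ∀ σ τ, σ < L.nT → τ < L.nT → L.mulT σ τ ≠ 0 →
    L.mulT σ τ - 1 < L.nT ∧ T σ * T τ = T (L.mulT σ τ - 1)
  rule_ok : ∀ r, r < L.nRule → L.rS r < L.nT ∧ L.rD r < L.nT ∧ M.toTab.okWord (L.rU r) = true ∧
    M.toTab.okWord (L.rV r) = true ∧ T (L.rS r) * val M.lv (L.rV r) = val M.lv (L.rU r) * T (L.rD r)
  rel_ok : ∀ r, r < L.nRel → L.relHd r < L.nT ∧ M.toTab.okWord (L.relTl r) = true ∧
    (∀ m, m < L.relLen r → L.relT r m < L.nT ∧ M.toTab.okWord (L.relW r m) = true) ∧
    T (L.relHd r) * ((List.range (L.relLen r)).map fun m =>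
      val M.lv (L.relW r m) * T (L.relT r m)).prod = val M.lv (L.relTl r)

namespace Steps

variable (D : Steps) (L : Rules) (M : Tab)

/-- Apply `n` rules to both sides of a fact. -/
noncomputable def shiftCheck (h' τ' k' : Nat) : Nat → Nat → Nat → Nat → Nat → Bool :=
  fun n => Nat.rec (fun _ h τ k => gate (Nat.beq h h') (gate (Nat.beq τ τ') (Nat.beq k k')))
    (fun _ ih w h τ k => force (Nat.mod w 256) fun r =>
      gate (Nat.blt r L.nRule) (gate (Nat.beq (L.rS r) τ)
        (force (M.app h (L.rU r)) fun h₁ => force (M.app k (L.rV r)) fun k₁ =>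
          force (L.rD r) fun τ₁ => ih (Nat.div w 256) h₁ τ₁ k₁))) n

/-- Follow relator `r` through `n` facts, then compare with the result of step `s`. -/
noncomputable def relCheck (r s : Nat) : Nat → Nat → Nat → Nat → Nat → Bool :=
  fun n => Nat.rec
    (fun _ m l y =>
      gate (Nat.beq (Nat.succ m) (L.relLen r))
        (gate (Nat.beq (D.fI s) l) (gate (Nat.beq (D.fH s) (M.app y (L.relW r m)))
          (Nat.beq (D.fT s) (L.relT r m)))))
    (fun _ ih ps m l y => force (Nat.mod ps 16777216) fun p =>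
      gate (Nat.blt p s) (gate (Nat.beq (D.fI p) l)
        (gate (Nat.beq (D.fH p) (M.app y (L.relW r m)))
          (gate (Nat.beq (D.fT p) (L.relT r m))
            (force (D.fJ p) fun l₁ => force (D.fK p) fun y₁ =>
              ih (Nat.div ps 16777216) (Nat.succ m) l₁ y₁))))) n

/-- A step introducing a node. -/
noncomputable def checkDef (s : Nat) : Bool :=
  force (D.argA s) fun j => gate (Nat.blt j D.nNode) (gate (Nat.ble 1 j)
    (force (D.nodeW j) fun w => gate (M.okWord w) (gate (Nat.blt (D.nodeSrc j) j)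
      (gate (Nat.blt (D.nodeT j) L.nT)
        (gate (Nat.beq (D.fI s) (D.nodeSrc j)) (gate (Nat.beq (D.fH s) (M.app M.base w))
          (gate (Nat.beq (D.fT s) (D.nodeT j)) (gate (Nat.beq (D.fJ s) j)
            (Nat.beq (D.fK s) M.base)))))))))

/-- An element of the subgroup fixes its coset. -/
noncomputable def checkIn (s : Nat) : Bool :=
  force (D.argW s) fun w => gate (M.okWord w)
    (gate (Nat.beq (D.fI s) 0) (gate (Nat.beq (D.fH s) (M.app M.base w))
      (gate (Nat.beq (D.fT s) 0) (gate (Nat.beq (D.fJ s) 0) (Nat.beq (D.fK s) M.base)))))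

/-- A coset is equal to itself. -/
noncomputable def checkRefl (s : Nat) : Bool :=
  force (D.argW s) fun w => gate (M.okWord w)
    (force (M.app M.base w) fun h => gate (Nat.beq (D.fI s) (D.argA s))
      (gate (Nat.beq (D.fH s) h) (gate (Nat.beq (D.fT s) 0)
        (gate (Nat.beq (D.fJ s) (D.argA s)) (Nat.beq (D.fK s) h)))))

/-- Reverse a fact. -/
noncomputable def checkInv (s : Nat) : Bool :=
  force (D.argA s) fun p => gate (Nat.blt p s)
    (gate (Nat.beq (D.fI s) (D.fJ p)) (gate (Nat.beq (D.fH s) (D.fK p))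
      (gate (Nat.beq (D.fT s) (L.invT (D.fT p))) (gate (Nat.beq (D.fJ s) (D.fI p))
        (Nat.beq (D.fK s) (D.fH p))))))

/-- Multiply a fact on the right by rules. -/
noncomputable def checkShift (s : Nat) : Bool :=
  force (D.argA s) fun p => gate (Nat.blt p s)
    (gate (Nat.beq (D.fI s) (D.fI p)) (gate (Nat.beq (D.fJ s) (D.fJ p))
      (force (D.argW s) fun w =>
        shiftCheck L M (D.fH s) (D.fT s) (D.fK s) (wLen w) (wBody w) (D.fH p) (D.fT p) (D.fK p))))

/-- Chain two facts. -/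
noncomputable def checkComp (s : Nat) : Bool :=
  force (D.argA s) fun p => force (D.argB s) fun q => gate (Nat.blt p s) (gate (Nat.blt q s)
    (gate (Nat.beq (D.fJ p) (D.fI q)) (gate (Nat.beq (D.fK p) (D.fH q))
      (gate (Nat.beq (L.mulT (D.fT p) (D.fT q)) (Nat.succ (D.fT s)))
        (gate (Nat.beq (D.fI s) (D.fI p)) (gate (Nat.beq (D.fH s) (D.fH p))
          (gate (Nat.beq (D.fJ s) (D.fJ q)) (Nat.beq (D.fK s) (D.fK q)))))))))

/-- Read a relator through facts and close it. -/
noncomputable def checkRel (s : Nat) : Bool :=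
  force (D.argA s) fun r => force (D.argB s) fun p => gate (Nat.blt r L.nRel) (gate (Nat.blt p s)
    (gate (Nat.beq (D.fT p) (L.relHd r))
      (gate (Nat.beq (D.fJ s) (D.fI p)) (gate (Nat.beq (D.fK s) (M.app (D.fH p) (L.relTl r)))
        (force (D.argW s) fun ps =>
          force (D.fJ p) fun l => force (D.fK p) fun y =>
            relCheck D L M r s (Nat.pred (L.relLen r)) ps 0 l y)))))

theorem shiftCheck_zero (h' τ' k' w h τ k : Nat) : shiftCheck L M h' τ' k' 0 w h τ k =
    gate (Nat.beq h h') (gate (Nat.beq τ τ') (Nat.beq k k')) := rfl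

theorem shiftCheck_succ (h' τ' k' n w h τ k : Nat) : shiftCheck L M h' τ' k' (n + 1) w h τ k =
    force (Nat.mod w 256) fun r =>
      gate (Nat.blt r L.nRule) (gate (Nat.beq (L.rS r) τ)
        (force (M.app h (L.rU r)) fun h₁ => force (M.app k (L.rV r)) fun k₁ =>
          force (L.rD r) fun τ₁ => shiftCheck L M h' τ' k' n (Nat.div w 256) h₁ τ₁ k₁)) := rfl

theorem relCheck_zero (r s ps m l y : Nat) : relCheck D L M r s 0 ps m l y =
    gate (Nat.beq (Nat.succ m) (L.relLen r))
      (gate (Nat.beq (D.fI s) l) (gate (Nat.beq (D.fH s) (M.app y (L.relW r m)))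
        (Nat.beq (D.fT s) (L.relT r m)))) := rfl

theorem relCheck_succ (r s n ps m l y : Nat) : relCheck D L M r s (n + 1) ps m l y =
    force (Nat.mod ps 16777216) fun p =>
      gate (Nat.blt p s) (gate (Nat.beq (D.fI p) l)
        (gate (Nat.beq (D.fH p) (M.app y (L.relW r m)))
          (gate (Nat.beq (D.fT p) (L.relT r m))
            (force (D.fJ p) fun l₁ => force (D.fK p) fun y₁ =>
              relCheck D L M r s n (Nat.div ps 16777216) (Nat.succ m) l₁ y₁)))) := rfl

/-- Step `s` is justified. -/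
noncomputable def check (s : Nat) : Bool :=
  force (D.kind s) fun t =>
    Bool.rec (motive := fun _ => Bool)
      (Bool.rec (motive := fun _ => Bool)
        (Bool.rec (motive := fun _ => Bool)
          (Bool.rec (motive := fun _ => Bool)
            (Bool.rec (motive := fun _ => Bool)
              (Bool.rec (motive := fun _ => Bool)
                (Bool.rec (motive := fun _ => Bool) false (checkRel D L M s) (Nat.beq t 6))
                (checkComp D L s) (Nat.beq t 5))
              (checkShift D L M s) (Nat.beq t 4))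
            (checkInv D L s) (Nat.beq t 3))
          (checkRefl D M s) (Nat.beq t 2))
        (checkIn D M s) (Nat.beq t 1))
      (checkDef D L M s) (Nat.beq t 0)

/-- The representative of a node, unfolded `f` times. -/
def repAux (M : Model G) (T : Nat → G) : Nat → Nat → G
  | 0, _ => 1
  | f + 1, j => if j = 0 then 1 else
      repAux M T f (D.nodeSrc j) * val M.lv (D.nodeW j) * T (D.nodeT j)

/-- The representative of a node. -/
def rep (M : Model G) (T : Nat → G) (j : Nat) : G := repAux D M T (j + 1) j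

/-- The cosets of `rep i * h * T τ` and `rep j * k` agree. -/
def Fact (M : Model G) (Hs : Subgroup G) (T : Nat → G) (i h τ j k : Nat) : Prop :=
  τ < L.nT ∧ ∃ x y, M.R h x ∧ M.R k y ∧
    rep D M T i * x * T τ * y⁻¹ * (rep D M T j)⁻¹ ∈ Hs

/-- Fact number `s`. -/
def Holds (M : Model G) (Hs : Subgroup G) (T : Nat → G) (s : Nat) : Prop :=
  Fact D L M Hs T (D.fI s) (D.fH s) (D.fT s) (D.fJ s) (D.fK s)

variable {D L} {M : Model G} {T : Nat → G} {Hs : Subgroup G}

theorem repAux_stable (hsrc : ∀ j, 1 ≤ j → j < D.nNode → D.nodeSrc j < j) :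
    ∀ f f' j, j < D.nNode → j < f → j < f' → repAux D M T f j = repAux D M T f' j := by
  intro f
  induction f with
  | zero => intros; omega
  | succ f ih =>
    intro f' j hj h h'
    obtain ⟨f', rfl⟩ : ∃ m, f' = m + 1 := ⟨f' - 1, by omega⟩
    rw [repAux, repAux]
    rcases eq_or_ne j 0 with rfl | hj0
    · simp
    · have := hsrc j (by omega) hj
      rw [if_neg hj0, if_neg hj0, ih f' (D.nodeSrc j) (by omega) (by omega) (by omega)]

theorem rep_zero : rep D M T 0 = 1 := by simp [rep, repAux]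

theorem rep_step (hsrc : ∀ j, 1 ≤ j → j < D.nNode → D.nodeSrc j < j) {j : Nat} (h1 : 1 ≤ j)
    (hj : j < D.nNode) :
    rep D M T j = rep D M T (D.nodeSrc j) * val M.lv (D.nodeW j) * T (D.nodeT j) := by
  have hs := hsrc j h1 hj
  rw [rep, repAux, if_neg (by omega)]
  congr 2
  exact repAux_stable hsrc _ _ _ (by omega) (by omega) (by omega)

theorem sound_shift (hL : L.Sound M T) {h' τ' k' i j : Nat} : ∀ n w h τ k,
    shiftCheck L M.toTab h' τ' k' n w h τ k = true → Fact D L M Hs T i h τ j k →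
      Fact D L M Hs T i h' τ' j k'
  | 0, w, h, τ, k, hc, hf => by
    simp only [shiftCheck_zero, gate_eq, Bool.and_eq_true] at hc
    obtain rfl := Nat.eq_of_beq_eq_true hc.1
    obtain rfl := Nat.eq_of_beq_eq_true hc.2.1
    obtain rfl := Nat.eq_of_beq_eq_true hc.2.2
    exact hf
  | n + 1, w, h, τ, k, hc, hf => by
    simp only [shiftCheck_succ, force_eq, gate_eq, Bool.and_eq_true] at hc
    obtain ⟨hr, hS, hrest⟩ := hc
    refine sound_shift hL n _ _ _ _ hrest ?_
    obtain ⟨-, hD, hu, hv, heq⟩ := hL.rule_ok _ (Nat.ble_eq.mp hr)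
    obtain ⟨hτ, x, y, hx, hy, hmem⟩ := hf
    rw [← Nat.eq_of_beq_eq_true hS] at hmem
    refine ⟨hD, _, _, M.step_word _ hu hx, M.step_word _ hv hy, ?_⟩
    have e : T (L.rS (Nat.mod w 256)) = val M.lv (L.rU (Nat.mod w 256)) *
        T (L.rD (Nat.mod w 256)) * (val M.lv (L.rV (Nat.mod w 256)))⁻¹ := by
      rw [← heq, mul_inv_cancel_right]
    rw [e] at hmem
    simpa [mul_assoc] using hmem

theorem sound_rel (hL : L.Sound M T) {r s : Nat} (hr : r < L.nRel)
    (hprev : ∀ p, p < s → Holds D L M Hs T p) {i : Nat} {x : G} : ∀ n ps m l y,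
    m + n + 1 = L.relLen r → relCheck D L M.toTab r s n ps m l y = true →
    (∃ z, M.R y z ∧ rep D M T i * x * (T (L.relHd r) * ((List.range m).map fun q =>
      val M.lv (L.relW r q) * T (L.relT r q)).prod) * z⁻¹ * (rep D M T l)⁻¹ ∈ Hs) →
    D.fT s < L.nT ∧ ∃ z, M.R (D.fH s) z ∧
      rep D M T i * x * val M.lv (L.relTl r) * (z * T (D.fT s))⁻¹ *
        (rep D M T (D.fI s))⁻¹ ∈ Hs
  | 0, ps, m, l, y, hm, hc, ⟨z, hz, hmem⟩ => by
    simp only [relCheck_zero, gate_eq, Bool.and_eq_true] at hc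
    obtain ⟨-, hI, hH, hT⟩ := hc
    obtain ⟨-, -, hW, heq⟩ := hL.rel_ok r hr
    obtain ⟨hτ, hw⟩ := hW m (by omega)
    rw [Nat.eq_of_beq_eq_true hI, Nat.eq_of_beq_eq_true hH, Nat.eq_of_beq_eq_true hT]
    refine ⟨hτ, _, M.step_word _ hw hz, ?_⟩
    rw [← heq, ← hm, List.range_succ, List.map_append, List.prod_append]
    simpa [mul_assoc] using hmem
  | n + 1, ps, m, l, y, hm, hc, ⟨z, hz, hmem⟩ => by
    simp only [relCheck_succ, force_eq, gate_eq, Bool.and_eq_true] at hc
    obtain ⟨hp, hI, hH, hT, hrest⟩ := hc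
    refine sound_rel hL hr hprev n _ _ _ _ (by omega) hrest ?_
    obtain ⟨-, -, hW, -⟩ := hL.rel_ok r hr
    obtain ⟨-, hw⟩ := hW m (by omega)
    obtain ⟨hτ, a, b, ha, hb, hmem₂⟩ := hprev _ (Nat.ble_eq.mp hp)
    rw [Nat.eq_of_beq_eq_true hI, Nat.eq_of_beq_eq_true hT] at hmem₂
    rw [Nat.eq_of_beq_eq_true hH] at ha
    obtain rfl := M.uniq _ _ _ ha (M.step_word _ hw hz)
    refine ⟨b, hb, ?_⟩
    have := Hs.mul_mem hmem hmem₂
    rw [List.range_succ, List.map_append, List.prod_append]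
    simpa [mul_assoc] using this

/-- Every checked step is true. -/
theorem holds_of_in (hL : L.Sound M T)
    (hin : ∀ s, s < D.len → D.kind s = 1 → val M.lv (D.argW s) ∈ Hs)
    (hsrc : ∀ j, 1 ≤ j → j < D.nNode → D.nodeSrc j < j) (hnT : 0 < L.nT)
    (hchk : ∀ s, s < D.len → check D L M.toTab s = true) :
    ∀ s, s < D.len → Holds D L M Hs T s := by
  intro s
  induction s using Nat.strong_induction_on with
  | _ s ih =>
    intro hs
    have hprev : ∀ p, p < s → Holds D L M Hs T p := fun p hp => ih p hp (by omega)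
    have hc := hchk s hs
    unfold check at hc
    simp only [force_eq] at hc
    cases h0 : Nat.beq (D.kind s) 0 <;> rw [h0] at hc
    rotate_left
    · -- definition
      simp only [checkDef, force_eq, gate_eq, Bool.and_eq_true] at hc
      obtain ⟨hj, h1, hw, -, hτ, eI, eH, eT, eJ, eK⟩ := hc
      rw [Holds, Nat.eq_of_beq_eq_true eI, Nat.eq_of_beq_eq_true eH, Nat.eq_of_beq_eq_true eT,
        Nat.eq_of_beq_eq_true eJ, Nat.eq_of_beq_eq_true eK]
      refine ⟨Nat.ble_eq.mp hτ, _, _, M.step_word _ hw M.one, M.one, ?_⟩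
      rw [rep_step hsrc (Nat.ble_eq.mp h1) (Nat.ble_eq.mp hj)]
      simp [mul_assoc]
    cases h1 : Nat.beq (D.kind s) 1 <;> rw [h1] at hc
    rotate_left
    · simp only [checkIn, force_eq, gate_eq, Bool.and_eq_true] at hc
      obtain ⟨hw, eI, eH, eT, eJ, eK⟩ := hc
      rw [Holds, Nat.eq_of_beq_eq_true eI, Nat.eq_of_beq_eq_true eH, Nat.eq_of_beq_eq_true eT,
        Nat.eq_of_beq_eq_true eJ, Nat.eq_of_beq_eq_true eK]
      refine ⟨hnT, _, _, M.step_word _ hw M.one, M.one, ?_⟩
      rw [rep_zero, hL.T_zero]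
      simpa using hin s hs (Nat.eq_of_beq_eq_true h1)
    cases h2 : Nat.beq (D.kind s) 2 <;> rw [h2] at hc
    rotate_left
    · simp only [checkRefl, force_eq, gate_eq, Bool.and_eq_true] at hc
      obtain ⟨hw, eI, eH, eT, eJ, eK⟩ := hc
      rw [Holds, Nat.eq_of_beq_eq_true eI, Nat.eq_of_beq_eq_true eH, Nat.eq_of_beq_eq_true eT,
        Nat.eq_of_beq_eq_true eJ, Nat.eq_of_beq_eq_true eK]
      refine ⟨hnT, _, _, M.step_word _ hw M.one, M.step_word _ hw M.one, ?_⟩
      simp [hL.T_zero]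
    cases h3 : Nat.beq (D.kind s) 3 <;> rw [h3] at hc
    rotate_left
    · simp only [checkInv, force_eq, gate_eq, Bool.and_eq_true] at hc
      obtain ⟨hp, eI, eH, eT, eJ, eK⟩ := hc
      obtain ⟨hτ, x, y, hx, hy, hmem⟩ := hprev _ (Nat.ble_eq.mp hp)
      rw [Holds, Nat.eq_of_beq_eq_true eI, Nat.eq_of_beq_eq_true eH, Nat.eq_of_beq_eq_true eT,
        Nat.eq_of_beq_eq_true eJ, Nat.eq_of_beq_eq_true eK]
      obtain ⟨hτ', hinv⟩ := hL.inv_eq _ hτ
      refine ⟨hτ', y, x, hy, hx, ?_⟩
      rw [eq_inv_of_mul_eq_one_right hinv]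
      simpa [mul_assoc] using Hs.inv_mem hmem
    cases h4 : Nat.beq (D.kind s) 4 <;> rw [h4] at hc
    rotate_left
    · simp only [checkShift, force_eq, gate_eq, Bool.and_eq_true] at hc
      obtain ⟨hp, eI, eJ, hrest⟩ := hc
      rw [Holds, Nat.eq_of_beq_eq_true eI, Nat.eq_of_beq_eq_true eJ]
      exact sound_shift hL _ _ _ _ _ hrest (hprev _ (Nat.ble_eq.mp hp))
    cases h5 : Nat.beq (D.kind s) 5 <;> rw [h5] at hc
    rotate_left
    · simp only [checkComp, force_eq, gate_eq, Bool.and_eq_true] at hc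
      obtain ⟨hp, hq, eJI, eKH, eM, eI, eH, eJ, eK⟩ := hc
      obtain ⟨hσ, x, y, hx, hy, h₁⟩ := hprev _ (Nat.ble_eq.mp hp)
      obtain ⟨hτ, y', z, hy', hz, h₂⟩ := hprev _ (Nat.ble_eq.mp hq)
      rw [← Nat.eq_of_beq_eq_true eKH] at hy'
      obtain rfl := M.uniq _ _ _ hy' hy
      rw [← Nat.eq_of_beq_eq_true eJI] at h₂
      have eρ := Nat.eq_of_beq_eq_true eM
      obtain ⟨hρ, hprod⟩ := hL.mul_eq _ _ hσ hτ (by omega)
      have eρ' : L.mulT (D.fT (D.argA s)) (D.fT (D.argB s)) - 1 = D.fT s := by omega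
      rw [eρ'] at hρ hprod
      rw [Holds, Nat.eq_of_beq_eq_true eI, Nat.eq_of_beq_eq_true eH, Nat.eq_of_beq_eq_true eJ,
        Nat.eq_of_beq_eq_true eK]
      refine ⟨hρ, x, z, hx, hz, ?_⟩
      rw [← hprod]
      simpa [mul_assoc] using Hs.mul_mem h₁ h₂
    cases h6 : Nat.beq (D.kind s) 6 <;> rw [h6] at hc
    · simp at hc
    · simp only [checkRel, force_eq, gate_eq, Bool.and_eq_true] at hc
      obtain ⟨hr, hp, eT, eJ, eK, hrest⟩ := hc
      obtain ⟨hτ, x, y, hx, hy, hmem⟩ := hprev _ (Nat.ble_eq.mp hp)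
      have hr' := Nat.ble_eq.mp hr
      obtain ⟨hhd, htl, hW, heq⟩ := hL.rel_ok _ hr'
      rw [Nat.eq_of_beq_eq_true eT] at hmem
      have hlen : 0 + Nat.pred (L.relLen (D.argA s)) + 1 = L.relLen (D.argA s) := by
        rcases Nat.eq_zero_or_pos (L.relLen (D.argA s)) with h | h
        · rw [h] at hrest
          simp only [Nat.pred_zero, relCheck_zero, gate_eq, Bool.and_eq_true] at hrest
          have := Nat.eq_of_beq_eq_true hrest.1
          omega
        · rw [Nat.pred_eq_sub_one]; omega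
      obtain ⟨hτs, z, hz, hres⟩ := sound_rel hL hr' hprev (i := D.fI (D.argB s)) (x := x)
        _ _ _ _ _ hlen hrest ⟨y, hy, by simpa using hmem⟩
      rw [Holds, Nat.eq_of_beq_eq_true eJ, Nat.eq_of_beq_eq_true eK]
      refine ⟨hτs, z, _, hz, M.step_word _ htl hx, ?_⟩
      simpa [mul_assoc] using Hs.inv_mem hres

/-- Every checked step is true, when all letters lie in the subgroup. -/
theorem holds (hL : L.Sound M T) (hlv : ∀ g, g < M.nL → M.lv g ∈ Hs)
    (hsrc : ∀ j, 1 ≤ j → j < D.nNode → D.nodeSrc j < j) (hnT : 0 < L.nT)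
    (hchk : ∀ s, s < D.len → check D L M.toTab s = true) :
    ∀ s, s < D.len → Holds D L M Hs T s := by
  refine holds_of_in hL (fun s hs hk => ?_) hsrc hnT hchk
  have hc := hchk s hs
  simp only [check, force_eq, hk] at hc
  simp only [show Nat.beq 1 0 = false from rfl, Nat.beq_refl, checkIn, force_eq, gate_eq,
    Bool.and_eq_true] at hc
  exact M.val_mem Hs hlv _ hc.1

end Steps

end Cfsg.Agent.DCoset
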