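import Cfsg.Agent.DCoset.Model

/-!
A finite model: a group whose elements are told apart by the images of a base, and lower bounds
on the orders of its subgroups from a transversal for each base point.
-/

namespace Cfsg.Agent.DCoset

open Cfsg.Agent.CosetCert

/-- Field `l` of a tuple. -/
noncomputable def fld (v l : Nat) : Nat := Nat.mod (Nat.shiftRight v (Nat.mul 16 l)) 65536

/-- Apply a packed word to one point. -/
noncomputable def actW (act : Nat → Nat → Nat) (p w : Nat) : Nat := foldW act (wLen w) (wBody w) p

/-- A group with a faithful action on tuples, letter by letter. -/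
structure QModel (Q : Type*) [Group Q] extends Tab where
  q : Nat → Q
  tup : Q → Nat
  one : tup 1 = base
  step : ∀ a g, g < nL → tup (a * q g) = mapTup (act g) k (tup a)
  inj : Function.Injective tup
  act_lt : ∀ g p, act g p < 65536

namespace QModel

variable {Q : Type*} [Group Q] (P : QModel Q)

/-- The model of the image in a group. -/
def toModel {G : Type*} [Group G] (ι : Q →* G) : Model G :=
  Model.ofHom ι P.k P.nL P.act P.base P.q P.tup P.one P.step P.inj

/-- The element of a packed word. -/
def el (w : Nat) : Q := val P.q w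

theorem el_val {G : Type*} [Group G] (ι : Q →* G) (w : Nat) :
    val (P.toModel ι).lv w = ι (P.el w) := by
  rw [el, val, val, valW_map]
  rfl

theorem tup_mul_word : ∀ n w a, lettersBelow P.nL n w = true →
    P.tup (a * valW P.q n w) = foldW (fun g v => mapTup (P.act g) P.k v) n w (P.tup a)
  | 0, _, a, _ => by simp [valW, foldW]
  | n + 1, w, a, hl => by
    rw [lettersBelow_succ, Bool.and_eq_true] at hl
    rw [foldW_succ, valW, ← mul_assoc, tup_mul_word n _ _ hl.2, P.step a _ (Nat.ble_eq.mp hl.1)]

theorem fld_mapTup (f : Nat → Nat) (hf : ∀ p, f p < 65536) :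
    ∀ k l v, l < k → fld (mapTup f k v) l = f (fld v l) := by
  have e : ∀ v l, fld v l = v / 65536 ^ l % 65536 := fun v l => by
    show (v >>> (16 * l)) % 65536 = _
    rw [Nat.shiftRight_eq_div_pow, Nat.pow_mul]
  intro k
  induction k with
  | zero => intros; omega
  | succ k ih =>
    intro l v hl
    have hlt := hf (v % 65536)
    rw [mapTup_succ, e, e]
    cases l with
    | zero => simp only [Nat.pow_zero, Nat.div_one]; omega
    | succ l =>
      have := ih l (v / 65536) (by omega)
      rw [e, e] at this
      rw [Nat.pow_succ', ← Nat.div_div_eq_div_mul, ← Nat.div_div_eq_div_mul]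
      rw [show (f (v % 65536) + 65536 * mapTup f k (v / 65536)) / 65536 =
        mapTup f k (v / 65536) by omega]
      exact this

theorem fld_tup_mul (w : Nat) (hw : lettersBelow P.nL (w % 65536) (w / 65536) = true) (a : Q)
    {l : Nat} (hl : l < P.k) :
    fld (P.tup (a * P.el w)) l = actW P.act (fld (P.tup a) l) w := by
  show fld (P.tup (a * valW P.q (w % 65536) (w / 65536))) l =
    foldW P.act (w % 65536) (w / 65536) _
  revert hw
  generalize w % 65536 = n, w / 65536 = u
  induction n generalizing u a with
  | zero => intro _; simp [valW, foldW]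
  | succ n ih =>
    intro hw
    rw [lettersBelow_succ, Bool.and_eq_true] at hw
    rw [valW, ← mul_assoc, ih _ _ hw.2, P.step a _ (Nat.ble_eq.mp hw.1),
      fld_mapTup _ (P.act_lt _) _ _ _ hl, foldW_succ]

/-- A chain: for each base point, words fixing the earlier ones and the points they reach. -/
structure Chain where
  nGen : Nat → Nat
  gen : Nat → Nat → Nat
  size : Nat → Nat
  pt : Nat → Nat → Nat
  par : Nat → Nat → Nat
  via : Nat → Nat → Nat
  pos : Nat → Nat → Nat

/-- All levels below `n` of the chain check, for words in the letters. -/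
noncomputable def checkGen (P : Tab) (C : Chain) (l a : Nat) : Bool :=
  force (C.gen l a) fun w =>
    gate (lettersBelow P.nL (wLen w) (wBody w))
      (allFrom (fun b => Nat.beq (actW P.act (fld P.base b) w) (fld P.base b)) 0 l)

/-- Point `m` of level `l` is new and reached from an earlier one. -/
noncomputable def checkPt (P : Tab) (C : Chain) (l m : Nat) : Bool :=
  force (C.pt l m) fun p => gate (Nat.beq (C.pos l p) m)
    (Bool.rec (motive := fun _ => Bool)
      (force (C.par l m) fun r => force (C.via l m) fun a => gate (Nat.blt r m)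
        (gate (Nat.blt a (C.nGen l)) (Nat.beq (actW P.act (C.pt l r) (C.gen l a)) p)))
      (Nat.beq p (fld P.base l)) (Nat.beq m 0))

/-- A chain of words in a subgroup bounds its order from below. -/
theorem card_ge [Finite Q] (S : Subgroup Q) (C : Chain)
    (hmem : ∀ l a, l < P.k → a < C.nGen l → P.el (C.gen l a) ∈ S)
    (hg : ∀ l a, l < P.k → a < C.nGen l → checkGen P.toTab C l a = true)
    (hp : ∀ l m, l < P.k → m < C.size l → checkPt P.toTab C l m = true) :
    ((List.range P.k).map C.size).prod ≤ Nat.card S := by
  classical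
  let F : Nat → Set Q := fun l => {s | s ∈ S ∧ ∀ b, b < l → fld (P.tup s) b = fld P.base b}
  have hword : ∀ l, l < P.k → ∀ a, a < C.nGen l →
      lettersBelow P.nL (C.gen l a % 65536) (C.gen l a / 65536) = true ∧
      ∀ b, b < l → actW P.act (fld P.base b) (C.gen l a) = fld P.base b := by
    intro l hl a ha
    have h := hg l a hl ha
    simp only [checkGen, force_eq, gate_eq, Bool.and_eq_true] at h
    exact ⟨h.1, fun b hb => Nat.eq_of_beq_eq_true
      ((allFrom_iff _ _ _).1 h.2 b (Nat.zero_le _) (by omega))⟩
  -- transversals
  have htrans : ∀ l, l < P.k → ∀ m, m < C.size l → ∃ t : Q, t ∈ S ∧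
      ∀ s : Q, s ∈ F l → s * t ∈ F l ∧
        (fld (P.tup s) l = fld P.base l → fld (P.tup (s * t)) l = C.pt l m) := by
    intro l hl m
    induction m using Nat.strong_induction_on with
    | _ m ih =>
      intro hm
      have h := hp l m hl hm
      simp only [checkPt, force_eq, gate_eq, Bool.and_eq_true] at h
      obtain ⟨-, h⟩ := h
      rcases Nat.eq_zero_or_pos m with rfl | hm0
      · refine ⟨1, S.one_mem, fun s hs => ⟨by simpa using hs, fun e => ?_⟩⟩
        rw [mul_one, e]
        exact (Nat.eq_of_beq_eq_true h).symm
      · have hb : Nat.beq m 0 = false := by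
          cases hb : Nat.beq m 0
          · rfl
          · exact absurd (Nat.eq_of_beq_eq_true hb) (by omega)
        rw [hb] at h
        simp only [Bool.and_eq_true] at h
        obtain ⟨hr, ha, he⟩ := h
        have hr' := Nat.ble_eq.mp hr
        have ha' := Nat.ble_eq.mp ha
        obtain ⟨t, ht, hts⟩ := ih _ hr' (by omega)
        obtain ⟨hlet, hfix⟩ := hword l hl _ ha'
        refine ⟨t * P.el (C.gen l (C.via l m)), S.mul_mem ht (hmem l _ hl ha'), fun s hs => ?_⟩
        obtain ⟨⟨hS, hF⟩, hpt⟩ := hts s hs
        rw [← mul_assoc]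
        refine ⟨⟨S.mul_mem hS (hmem l _ hl ha'), fun b hb => ?_⟩, fun e => ?_⟩
        · rw [P.fld_tup_mul _ hlet _ (by omega), hF b hb, hfix b hb]
        · rw [P.fld_tup_mul _ hlet _ hl, hpt e]
          exact Nat.eq_of_beq_eq_true he
  have key : ∀ d l, l + d = P.k → ((List.range' l d).map C.size).prod ≤ Nat.card (F l) := by
    intro d
    induction d with
    | zero =>
      intro l _
      have : Nonempty (F l) := ⟨⟨1, S.one_mem, fun b _ => by rw [P.one]⟩⟩
      simp only [List.range'_zero, List.map_nil, List.prod_nil]
      exact Nat.card_pos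
    | succ d ih =>
      intro l hl
      have h1 := ih (l + 1) (by omega)
      rw [List.range'_succ, List.map_cons, List.prod_cons]
      refine le_trans (Nat.mul_le_mul_left _ h1) ?_
      choose t htS ht using fun m : Fin (C.size l) => htrans l (by omega) m.1 m.2
      have hmemF : ∀ s : F (l + 1), (s : Q) ∈ F l := fun s => ⟨s.2.1, fun b hb => s.2.2 b (by omega)⟩
      let Φ : Fin (C.size l) × F (l + 1) → F l :=
        fun x => ⟨(x.2 : Q) * t x.1, (ht x.1 _ (hmemF x.2)).1⟩
      have hΦ : Function.Injective Φ := by
        rintro ⟨m, s⟩ ⟨m', s'⟩ he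
        have he' : (s : Q) * t m = s' * t m' := congrArg Subtype.val he
        have hpt := (ht m _ (hmemF s)).2 (s.2.2 l (by omega))
        rw [he', (ht m' _ (hmemF s')).2 (s'.2.2 l (by omega))] at hpt
        have hmm : m = m' := by
          apply Fin.ext
          have a1 := hp l m.1 (by omega) m.2
          have a2 := hp l m'.1 (by omega) m'.2
          simp only [checkPt, force_eq, gate_eq, Bool.and_eq_true] at a1 a2
          rw [← Nat.eq_of_beq_eq_true a1.1, ← hpt, Nat.eq_of_beq_eq_true a2.1]
        subst hmm
        exact Prod.ext rfl (Subtype.ext (mul_right_cancel he'))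
      simpa using Nat.card_le_card_of_injective Φ hΦ
  have h0 := key P.k 0 (Nat.zero_add _)
  rw [← List.range_eq_range'] at h0
  refine le_trans h0 ?_
  exact Nat.card_le_card_of_injective (fun x : F 0 => (⟨x.1, x.2.1⟩ : S))
    fun a b h => Subtype.ext (congrArg Subtype.val h :)

end QModel

end Cfsg.Agent.DCoset
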