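import Cfsg.Agent.DCoset.LowerAct

/-!
Points of a model: when they are carried along by the letters, and when they determine an element.
-/

namespace Cfsg.Agent.DCoset

open Cfsg.Agent.CosetCert

namespace QModel

variable {Q : Type*} [Group Q] [Finite Q] (P : QModel Q)
  (hgen : Subgroup.closure {x | ∃ g, g < P.nL ∧ x = P.q g} = ⊤)

include hgen

theorem gen_induction {p : Q → Prop} (h1 : p 1) (hq : ∀ a, p a → ∀ g, g < P.nL → p (a * P.q g)) :
    ∀ a, p a := by
  intro a
  have ha : a ∈ Submonoid.closure {x | ∃ g, g < P.nL ∧ x = P.q g} := by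
    rw [← Subgroup.closure_toSubmonoid_of_finite, hgen]
    trivial
  induction ha using Submonoid.closure_induction_right with
  | one => exact h1
  | mul_right b _ c hc ih => obtain ⟨g, hg, rfl⟩ := hc; exact hq b ih g hg

/-- Elements carrying two points to one point agree afterwards. -/
theorem fld_congr {l l' : Nat} (hl : l < P.k) (hl' : l' < P.k) {a a' : Q}
    (h : fld (P.tup a) l = fld (P.tup a') l') (c : Q) :
    fld (P.tup (a * c)) l = fld (P.tup (a' * c)) l' := by
  refine P.gen_induction hgen (p := fun c => fld (P.tup (a * c)) l = fld (P.tup (a' * c)) l')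
    (by simpa using h) (fun b ih g hg => ?_) c
  rw [← mul_assoc, ← mul_assoc, P.step _ g hg, P.step _ g hg, fld_mapTup _ (P.act_lt g) _ _ _ hl,
    fld_mapTup _ (P.act_lt g) _ _ _ hl', ih]

omit [Finite Q] hgen in
theorem mapTup_lt (f : Nat → Nat) (hf : ∀ p, f p < 65536) : ∀ k v, mapTup f k v < 65536 ^ k
  | 0, _ => by simp [mapTup]
  | k + 1, v => by
    have h := mapTup_lt f hf k (v / 65536)
    have := hf (v % 65536)
    rw [mapTup_succ, Nat.pow_succ]
    nlinarith

omit [Finite Q] hgen in
theorem eq_of_fld : ∀ (k v w : Nat), v < 65536 ^ k → w < 65536 ^ k →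
    (∀ l, l < k → fld v l = fld w l) → v = w := by
  have e : ∀ v l, fld v l = v / 65536 ^ l % 65536 := fun v l => by
    show (v >>> (16 * l)) % 65536 = _
    rw [Nat.shiftRight_eq_div_pow, Nat.pow_mul]
  intro k
  induction k with
  | zero => intro v w hv hw _; simp at hv hw; omega
  | succ k ih =>
    intro v w hv hw h
    rw [Nat.pow_succ] at hv hw
    have h0 := h 0 (by omega)
    simp only [e, Nat.pow_zero, Nat.div_one] at h0
    have hq := ih (v / 65536) (w / 65536)
      ((Nat.div_lt_iff_lt_mul (by norm_num)).2 hv) ((Nat.div_lt_iff_lt_mul (by norm_num)).2 hw)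
      fun l hl => by
        have := h (l + 1) (by omega)
        simpa only [e, Nat.pow_succ', ← Nat.div_div_eq_div_mul] using this
    omega

/-- An element fixing every point it meets is trivial. -/
theorem eq_one_of_pt0 (hb : P.base < 65536 ^ P.k) (hk : 0 < P.k) (reach : Nat → Q)
    (hreach : ∀ l, l < P.k → P.pt0 (reach l) = fld P.base l) {q : Q}
    (h : ∀ b, P.pt0 (b * q) = P.pt0 b) : q = 1 := by
  refine P.inj (eq_of_fld P.k _ _ ?_ ?_ fun l hl => ?_)
  · revert h
    refine P.gen_induction hgen (p := fun q => (∀ b, P.pt0 (b * q) = P.pt0 b) → P.tup q < 65536 ^ P.k)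
      (fun _ => by rw [P.one]; exact hb) (fun b _ g hg _ => ?_) q
    rw [P.step _ g hg]
    exact mapTup_lt _ (P.act_lt g) _ _
  · rw [P.one]; exact hb
  · have hr : fld (P.tup (reach l)) 0 = fld (P.tup 1) l := by
      rw [P.one]; exact hreach l hl
    have := P.fld_congr hgen hk hl hr q
    rw [one_mul] at this
    rw [← this, ← hr]
    exact h (reach l)

end QModel

end Cfsg.Agent.DCoset
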