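import Mathlib

/-!
Fixed cosets of an element, counted through suborbits: along one orbit of a subgroup the fixed
points are governed by the conjugates of the element in the point stabiliser.
-/

set_option autoImplicit false

namespace Cfsg.Agent.DCoset.FixCount

variable {Q X : Type*} [Group Q] [Finite Q] [MulAction Q X] [Finite X]

/-- Elements carrying `x` to fixed points of `h`, counted in two ways. -/
theorem card_fixed_mul (x : X) (h : Q) :
    Nat.card {z : X // z ∈ MulAction.orbit Q x ∧ h • z = z} * Nat.card (MulAction.stabilizer Q x) =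
      Nat.card (Subgroup.centralizer ({h} : Set Q)) *
        Nat.card {s : Q // s ∈ MulAction.stabilizer Q x ∧ IsConj h s} := by
  classical
  set St := MulAction.stabilizer Q x
  let A := {q : Q // q⁻¹ * h * q ∈ St}
  have hA : ∀ q : Q, q⁻¹ * h * q ∈ St ↔ h • (q • x) = q • x := fun q => by
    rw [MulAction.mem_stabilizer_iff, mul_smul, mul_smul, inv_smul_eq_iff]
  let T1 := {z : X // z ∈ MulAction.orbit Q x ∧ h • z = z}
  let f : A → T1 := fun a => ⟨a.1 • x, MulAction.mem_orbit _ _, (hA a.1).1 a.2⟩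
  have hf : ∀ z : T1, Nat.card {a : A // f a = z} = Nat.card St := by
    rintro ⟨z, hz, hfix⟩
    obtain ⟨q, rfl⟩ := hz
    refine Nat.card_congr ⟨fun a => ⟨q⁻¹ * a.1.1, ?_⟩, fun s => ⟨⟨q * s.1, ?_⟩, ?_⟩, fun a => ?_, fun s => ?_⟩
    · have e : a.1.1 • x = q • x := congrArg Subtype.val a.2
      rw [MulAction.mem_stabilizer_iff, mul_smul, e, inv_smul_smul]
    · rw [hA, mul_smul, MulAction.mem_stabilizer_iff.1 s.2]
      exact hfix
    · apply Subtype.ext
      show (q * s.1) • x = q • x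
      rw [mul_smul, MulAction.mem_stabilizer_iff.1 s.2]
    · exact Subtype.ext (Subtype.ext (mul_inv_cancel_left q a.1.1))
    · exact Subtype.ext (inv_mul_cancel_left q s.1)
  let T2 := {s : Q // s ∈ St ∧ IsConj h s}
  let g : A → T2 := fun a =>
    ⟨a.1⁻¹ * h * a.1, a.2, isConj_iff.2 ⟨a.1⁻¹, by rw [inv_inv]⟩⟩
  have hg : ∀ s : T2, Nat.card {a : A // g a = s} =
      Nat.card (Subgroup.centralizer ({h} : Set Q)) := by
    rintro ⟨s, hs, hc⟩
    obtain ⟨c, rfl⟩ := isConj_iff.1 hc
    refine Nat.card_congr ⟨fun a => ⟨a.1.1 * c, ?_⟩, fun k => ⟨⟨k.1 * c⁻¹, ?_⟩, ?_⟩, fun a => ?_, fun k => ?_⟩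
    · have e : a.1.1⁻¹ * h * a.1.1 = c * h * c⁻¹ := congrArg Subtype.val a.2
      rw [Subgroup.mem_centralizer_singleton_iff]
      calc a.1.1 * c * h = a.1.1 * (c * h * c⁻¹) * c := by group
        _ = a.1.1 * (a.1.1⁻¹ * h * a.1.1) * c := by rw [e]
        _ = h * (a.1.1 * c) := by group
    · have e := Subgroup.mem_centralizer_singleton_iff.1 k.2
      have : (k.1 * c⁻¹)⁻¹ * h * (k.1 * c⁻¹) = c * (k.1⁻¹ * (h * k.1)) * c⁻¹ := by group
      rw [this, ← e, inv_mul_cancel_left]
      exact hs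
    · apply Subtype.ext
      show (k.1 * c⁻¹)⁻¹ * h * (k.1 * c⁻¹) = c * h * c⁻¹
      have e := Subgroup.mem_centralizer_singleton_iff.1 k.2
      have : (k.1 * c⁻¹)⁻¹ * h * (k.1 * c⁻¹) = c * (k.1⁻¹ * (h * k.1)) * c⁻¹ := by group
      rw [this, ← e, inv_mul_cancel_left]
    · exact Subtype.ext (Subtype.ext (mul_inv_cancel_right a.1.1 c))
    · exact Subtype.ext (inv_mul_cancel_right k.1 c)
  have := Fintype.ofFinite T1
  have := Fintype.ofFinite T2
  have h1 : Nat.card A = Nat.card T1 * Nat.card St := by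
    rw [← Nat.card_congr (Equiv.sigmaFiberEquiv f), Nat.card_sigma]
    simp only [hf, Finset.sum_const, Finset.card_univ, smul_eq_mul, Nat.card_eq_fintype_card]
  have h2 : Nat.card A = Nat.card T2 * Nat.card (Subgroup.centralizer ({h} : Set Q)) := by
    rw [← Nat.card_congr (Equiv.sigmaFiberEquiv g), Nat.card_sigma]
    simp only [hg, Finset.sum_const, Finset.card_univ, smul_eq_mul, Nat.card_eq_fintype_card]
  rw [← h1, h2, Nat.mul_comm]

/-- The centraliser against the fixed points. -/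
theorem card_centralizer_le {G Y : Type*} [Group G] [Finite G] [MulAction G Y] [Finite Y]
    (g : G) (y : Y) (hy : g • y = y) :
    Nat.card (Subgroup.centralizer ({g} : Set G)) ≤
      Nat.card ↥(Subgroup.centralizer ({g} : Set G) ⊓ MulAction.stabilizer G y) *
        Nat.card {z : Y // g • z = z} := by
  set C := Subgroup.centralizer ({g} : Set G)
  have horb : Nat.card (MulAction.orbit C y) ≤ Nat.card {z : Y // g • z = z} := by
    refine Nat.card_le_card_of_injective (fun z => ⟨z.1, ?_⟩) fun a b h =>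
      Subtype.ext (congrArg Subtype.val h :)
    obtain ⟨⟨c, hc⟩, hcz⟩ := z.2
    have hcz' : c • y = z.1 := hcz
    rw [← hcz', ← mul_smul, ← Subgroup.mem_centralizer_singleton_iff.1 hc, mul_smul, hy]
  have hst : Nat.card (MulAction.stabilizer C y) = Nat.card ↥(C ⊓ MulAction.stabilizer G y) :=
    Nat.card_congr
      ⟨fun c => ⟨c.1.1, c.1.2, c.2⟩, fun c => ⟨⟨c.1, c.2.1⟩, c.2.2⟩, fun _ => rfl, fun _ => rfl⟩
  calc Nat.card C = Nat.card (MulAction.orbit C y) * Nat.card (MulAction.stabilizer C y) := by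
        rw [← Nat.card_prod]
        exact (Nat.card_congr (MulAction.orbitProdStabilizerEquivGroup C y)).symm
    _ ≤ Nat.card {z : Y // g • z = z} * Nat.card (MulAction.stabilizer C y) :=
        Nat.mul_le_mul_right _ horb
    _ = _ := by rw [hst, Nat.mul_comm]

/-- Fixed points distributed over labelled orbits. -/
theorem card_fixed_sum {M : Type*} [Fintype M] (pt : M → X) (label : X → M)
    (hlab : ∀ (q : Q) z, label (q • z) = label z) (hcov : ∀ z, z ∈ MulAction.orbit Q (pt (label z)))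
    (hpt : ∀ m, label (pt m) = m) (h : Q) :
    Nat.card {z : X // h • z = z} =
      ∑ m, Nat.card {z : X // z ∈ MulAction.orbit Q (pt m) ∧ h • z = z} := by
  have hlab' : ∀ {z : X} {m : M}, z ∈ MulAction.orbit Q (pt m) → label z = m := by
    rintro z m ⟨q, rfl⟩
    show label (q • pt m) = m
    rw [hlab, hpt]
  rw [← Nat.card_sigma]
  refine Nat.card_congr ⟨fun z => ⟨label z.1, z.1, hcov z.1, z.2⟩, fun p => ⟨p.2.1, p.2.2.2⟩,
    fun z => rfl, ?_⟩
  rintro ⟨m, z, hz, hfix⟩
  have := hlab' hz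
  subst this
  rfl

end Cfsg.Agent.DCoset.FixCount
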