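import Cfsg.Agent.DCoset.Lower

/-!
Properties of the action built from the tables: the extra letters, a relator, transitivity and the
number of points.
-/

namespace Cfsg.Agent.DCoset

open Cfsg.Agent.CosetCert

/-- Data checking that `(word Z, then extra letter τ)` repeated `len` times is trivial. -/
structure LowRel where
  nC : Nat
  cW : Nat → Nat
  nD : Nat
  dW : Nat → Nat
  /-- `letter g * dW e = dW (dD g e) * (the word dC g e in cW)` -/
  dD : Nat → Nat → Nat
  dC : Nat → Nat → Nat
  zW : Nat
  τ : Nat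
  len : Nat
  hC : Nat → Nat → Nat → Nat
  hU : Nat → Nat → Nat → Nat
  hS : Nat → Nat → Nat

/-- Upper bound certificate for the order of a generated subgroup. -/
structure Closed where
  K : Nat
  nG : Nat → Nat
  gW : Nat → Nat → Nat
  size : Nat → Nat
  rep : Nat → Nat → Nat
  cD : Nat → Nat → Nat → Nat
  cH : Nat → Nat → Nat → Nat

namespace Closed

variable (C : Closed) (P : Tab)

/-- A generator moves a representative to another one, up to the next level. -/
noncomputable def check (l i a : Nat) : Bool :=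
  force (C.cD l i a) fun d => force (C.cH l i a) fun h => gate (Nat.blt d (C.size l))
    (gate (lettersBelow (C.nG (Nat.succ l)) (wLen h) (wBody h))
      (Nat.beq (Cover.appP P (Cover.appP P P.base (C.rep l i)) (C.gW l a))
        (Cover.appP P (appI P (C.gW (Nat.succ l)) P.base h) (C.rep l d))))

/-- The words are spelled. -/
noncomputable def checkOk (l : Nat) : Bool :=
  gate (allFrom (fun a => Cover.okP P (C.gW l a)) 0 (C.nG l))
    (allFrom (fun i => Cover.okP P (C.rep l i)) 0 (C.size l))

/-- The bound. -/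
theorem card_le {Q : Type*} [Group Q] [Finite Q] (P : QModel Q) (C : Closed)
    (hend : C.nG C.K = 0)
    (hok : ∀ l, l < C.K → checkOk C P.toTab l = true)
    (hrep : ∀ l, l < C.K → 0 < C.size l ∧ C.rep l 0 = 0)
    (hchk : ∀ l i a, l < C.K → i < C.size l → a < C.nG l → check C P.toTab l i a = true) :
    Nat.card (Subgroup.closure {x | ∃ a, a < C.nG 0 ∧ x = P.el (C.gW 0 a)}) ≤
      ((List.range C.K).map C.size).prod := by
  classical
  have key : ∀ d l, l + d = C.K →
      Nat.card (Subgroup.closure {x | ∃ a, a < C.nG l ∧ x = P.el (C.gW l a)}) ≤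
        ((List.range' l d).map C.size).prod := by
    intro d
    induction d with
    | zero =>
      intro l hl
      have : {x | ∃ a, a < C.nG l ∧ x = P.el (C.gW l a)} = (∅ : Set Q) := by
        ext x
        simp [show l = C.K by omega, hend]
      rw [this, Subgroup.closure_empty]
      simp
    | succ d ih =>
      intro l hl
      have hl' : l < C.K := by omega
      have hgok : ∀ l', l' ≤ C.K → ∀ a, a < C.nG l' → Cover.okP P.toTab (C.gW l' a) = true := by
        intro l' h a ha
        rcases Nat.lt_or_eq_of_le h with h | rfl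
        · have := hok l' h
          simp only [checkOk, gate_eq, Bool.and_eq_true] at this
          exact allFrom_all this.1 ha
        · omega
      have hrok : ∀ i, i < C.size l → Cover.okP P.toTab (C.rep l i) = true := by
        intro i hi
        have := hok l hl'
        simp only [checkOk, gate_eq, Bool.and_eq_true] at this
        exact allFrom_all this.2 hi
      set H := Subgroup.closure {x | ∃ a, a < C.nG (l + 1) ∧ x = P.el (C.gW (l + 1) a)} with hH
      let R : Set Q := {y | ∃ i, i < C.size l ∧ ∃ h ∈ H, y = h * P.el (C.rep l i)}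
      have h1 : (1 : Q) ∈ R := ⟨0, (hrep l hl').1, 1, one_mem _, by
        simp [(hrep l hl').2, QModel.el, val, valW]⟩
      have hstep : ∀ y ∈ R, ∀ a, a < C.nG l → y * P.el (C.gW l a) ∈ R := by
        rintro _ ⟨i, hi, h, hh, rfl⟩ a ha
        have e := hchk l i a hl' hi ha
        simp only [check, force_eq, gate_eq, Bool.and_eq_true] at e
        obtain ⟨hd, hw, he⟩ := e
        have hd := Nat.ble_eq.mp hd
        have he := Nat.eq_of_beq_eq_true he
        rw [← P.one, Cover.appP_tup (hrok i hi), one_mul, Cover.appP_tup (hgok l hl'.le a ha),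
          P.appI_tup _ (hgok (l + 1) hl') _ hw, one_mul, Cover.appP_tup (hrok _ hd)] at he
        refine ⟨_, hd, h * P.elI (C.gW (Nat.succ l)) (C.cH l i a), mul_mem hh ?_, ?_⟩
        · exact valW_mem _ (C.nG (l + 1)) H (fun b hb => Subgroup.subset_closure ⟨b, hb, rfl⟩) _ _ hw
        · rw [mul_assoc, P.inj he, mul_assoc]
      have hall : ∀ x ∈ Subgroup.closure {x | ∃ a, a < C.nG l ∧ x = P.el (C.gW l a)}, x ∈ R := by
        intro x hx
        rw [← Subgroup.mem_toSubmonoid, Subgroup.closure_toSubmonoid_of_finite] at hx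
        induction hx using Submonoid.closure_induction_right with
        | one => exact h1
        | mul_right y _ z hz ih => obtain ⟨a, ha, rfl⟩ := hz; exact hstep y ih a ha
      rw [List.range'_succ, List.map_cons, List.prod_cons]
      refine le_trans ?_ (Nat.mul_le_mul_left _ (ih (l + 1) (by omega)))
      choose f hf g hgH he using fun x : Subgroup.closure {x | ∃ a, a < C.nG l ∧ x = P.el (C.gW l a)} =>
        hall x x.2
      let Φ : Subgroup.closure {x | ∃ a, a < C.nG l ∧ x = P.el (C.gW l a)} → Fin (C.size l) × H :=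
        fun x => (⟨f x, hf x⟩, ⟨g x, hgH x⟩)
      have hΦ : Function.Injective Φ := by
        intro x y h
        simp only [Φ, Prod.mk.injEq, Fin.mk.injEq, Subtype.mk.injEq] at h
        exact Subtype.ext (by rw [he x, he y, h.1, h.2])
      simpa using Nat.card_le_card_of_injective Φ hΦ
  have := key C.K 0 (Nat.zero_add _)
  rwa [← List.range_eq_range'] at this

end Closed

namespace Low

variable (L : Low) (R : LowRel) (P : Tab)

/-- A generator of the commuting subgroup. -/
noncomputable def checkC (i : Nat) : Bool :=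
  force (R.cW i) fun w => gate (okU L w) (gate (Nat.beq (piW L w R.τ) R.τ)
    (Nat.beq (Cover.appP P (Cover.appP P P.base w) R.zW) (Cover.appP P (Cover.appP P P.base R.zW) w)))

/-- The representatives are closed under the letters of `U`. -/
noncomputable def checkD (g e : Nat) : Bool :=
  force (R.dD g e) fun d => force (R.dC g e) fun w => gate (Nat.blt d R.nD)
    (gate (lettersBelow R.nC (wLen w) (wBody w))
      (Nat.beq (Cover.appP P (mapTup (P.act g) P.k P.base) (R.dW e))
        (appI P R.cW (Cover.appP P P.base (R.dW d)) w)))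

/-- Follow the relator. -/
noncomputable def relChain (j e : Nat) : Nat → Nat → Nat → Nat → (Nat → Nat → Bool) → Bool :=
  fun n => Nat.rec (fun _ m v k => k m v)
    (fun _ ih i m v k => force (Cover.appP P v R.zW) fun v' =>
      stepK L P m v' R.τ (R.hC j e i) (R.hU j e i) fun m' v'' => ih (Nat.succ i) m' v'' k) n

/-- The relator at a representative point. -/
noncomputable def checkRel (j e : Nat) : Bool :=
  force (L.rM j) fun m0 => force (Cover.appP P (Cover.appP P P.base (L.rW j)) (R.dW e)) fun v0 =>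
    relChain L R P j e R.len 0 m0 v0 fun m v => force (R.hS j e) fun σ =>
      gate (Nat.beq m m0) (gate (okS L m0 σ)
        (Nat.beq v (Cover.appP P (Cover.appP P (appS L P m0 P.base σ) (L.rW j)) (R.dW e))))

/-- The conditions on the relator tables. -/
structure RelValid : Prop where
  zok : Cover.okP P R.zW = true
  tlt : R.τ < L.nT
  d_zero : 0 < R.nD ∧ R.dW 0 = 0
  d_ok : ∀ e, e < R.nD → okU L (R.dW e) = true
  c_ok : ∀ i, i < R.nC → checkC L R P i = true
  dd_ok : ∀ g e, g < L.nU → e < R.nD → checkD R P g e = true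
  rel_ok : ∀ j e, j < L.nR → e < R.nD → checkRel L R P j e = true

/-- A node is reached from an earlier one. -/
noncomputable def checkReach (src w t hc hu : Nat → Nat) (m : Nat) : Bool :=
  Bool.rec (motive := fun _ => Bool)
    (force (src m) fun m' => gate (Nat.blt m' m) (gate (Cover.okP P (w m)) (gate (Nat.blt (t m) L.nT)
      (stepK L P m' (Cover.appP P P.base (w m)) (t m) (hc m) (hu m) fun m'' _ => Nat.beq m'' m))))
    true (Nat.beq m 0)

end Low

namespace Low

variable {L : Low} {Q : Type*} [Group Q] {P : QModel Q} [Finite Q] {π : Q → Nat → Nat}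

/-- The extra letters act by the images of the roots. -/
def IsAct (V : Valid L P π) (F : Nat → Pt L P → Pt L P) : Prop :=
  ∀ (j : Nat) (hj : j < L.nR) (hm : L.rM j < L.n) (u : Q) (hu : u ∈ grpU L P) (t : Nat) (ht : t < L.nT),
    F t (pt L P hm (P.el (L.rW j) * u)) =
      val0 L P π (fun j t hj ht => (V.img_lt hj ht).1) hj u (V.pi_lt u hu t ht)

namespace Valid

variable (V : Valid L P π) {F : Nat → Pt L P → Pt L P} (hF : IsAct V F)
include V

/-- Every point is a root moved by an element of `U`. -/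
theorem exists_root (x : Pt L P) : ∃ (j : Nat) (hj : j < L.nR) (u : Q) (_ : u ∈ grpU L P),
    x = pt L P (V.root_spec hj).1 (P.el (L.rW j) * u) := by
  obtain ⟨m, hm, a, rfl⟩ := exists_pt L P x
  obtain ⟨j, u, hj, rfl, hu, hs⟩ := V.decomp hm a
  refine ⟨j, hj, u, hu, ?_⟩
  rw [pt_eq, ← inv_inv (P.el (L.rW j) * u * a⁻¹), mul_inv_rev, inv_inv]
  exact inv_mem hs

include hF

theorem act_rmul (x : Pt L P) {u : Q} (hu : u ∈ grpU L P) {t : Nat} (ht : t < L.nT) :
    F t (rmul L P x u) = rmul L P (F (π u t) x) u := by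
  obtain ⟨j, hj, v, hv, rfl⟩ := V.exists_root x
  have hs := V.pi_lt u hu t ht
  rw [rmul_pt, mul_assoc, hF j hj _ _ (mul_mem hv hu) t ht, hF j hj _ v hv _ hs, val0, val0, rmul_pt,
    pt_congr L P (show L.iM j (π (v * u) t) = L.iM j (π v (π u t)) by rw [V.pi_mul v u hv hu t ht]) _
      (V.img_lt hj (V.pi_lt v hv _ hs)).1, V.pi_mul v u hv hu t ht, mul_assoc]

omit [Finite Q] in
theorem act_root {j t : Nat} (hj : j < L.nR) (ht : t < L.nT) :
    F t (pt L P (V.root_spec hj).1 (P.el (L.rW j))) = pt L P (V.img_lt hj ht).1 (P.el (L.iW j t)) := by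
  have h := hF j hj (V.root_spec hj).1 1 (one_mem _) t ht
  rw [mul_one] at h
  rw [h, val0, mul_one, pt_congr L P (show L.iM j (π 1 t) = L.iM j t by rw [V.pi_one]) _
    (V.img_lt hj ht).1, V.pi_one]

omit [Finite Q] in
theorem step_spec {m : Nat} (hm : m < L.n) {a : Q} {t c u : Nat} (ht : t < L.nT)
    {k : Nat → Nat → Bool} (h : stepK L P.toTab m (P.tup a) t c u k = true) :
    ∃ (m' : Nat) (hm' : m' < L.n) (a' : Q),
      F t (pt L P hm a) = pt L P hm' a' ∧ k m' (P.tup a') = true := by
  simp only [stepK, force_eq, gate_eq, Bool.and_eq_true] at h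
  obtain ⟨hc, hu, he, hk⟩ := h
  have hc := Nat.ble_eq.mp hc
  obtain ⟨hup, huU⟩ := V.elU hu
  obtain ⟨hj, hmj, hlU, hs, hec⟩ := V.loc_spec hm hc
  have hlw : okU L (L.lU m c) = true := by
    have h := V.loc_ok m c hm hc
    simp only [checkLoc, force_eq, gate_eq, Bool.and_eq_true] at h
    exact h.2.2.2.1
  have he := Nat.eq_of_beq_eq_true he
  rw [← P.one, Cover.appP_tup (V.ep_ok c hc), one_mul, Cover.appP_tup hup] at he
  have hπ := V.pi_lt _ huU t ht
  have hj' := V.pi_lt _ hlU _ hπ
  rw [V.piW_eq hu ht, V.piW_eq hlw hπ, ← V.pi_mul _ _ hlU huU t ht] at hk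
  rw [← V.pi_mul _ _ hlU huU t ht] at hj'
  obtain ⟨hm', hok'⟩ := V.img_lt hj hj'
  rw [← P.one, Cover.appP_tup hok', one_mul, Cover.appP_tup (V.elU hlw).1, Cover.appP_tup hup] at hk
  refine ⟨_, hm', _, ?_, hk⟩
  have e : pt L P hm a = pt L P (V.root_spec hj).1 (P.el (L.rW (L.lJ m c)) * (P.el (L.lU m c) * P.el u)) := by
    rw [pt_congr L P hmj.symm hm (V.root_spec hj).1, pt_eq, P.inj he, hec, ← inv_mem_iff]
    simpa [mul_assoc, hmj] using hs
  rw [e, hF _ hj _ _ (mul_mem hlU huU) t ht, val0, mul_assoc]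

theorem act_zero (x : Pt L P) : F 0 x = x := by
  obtain ⟨j, hj, u, hu, rfl⟩ := V.exists_root x
  have h := V.zero_ok j hj
  simp only [checkZero, gate_eq, Bool.and_eq_true] at h
  obtain ⟨hm, he⟩ := h
  have he := Nat.eq_of_beq_eq_true he
  rw [← P.one, Cover.appP_tup (V.img_lt hj V.nT_pos).2, Cover.appP_tup (V.root_spec hj).2.2.2.1,
    one_mul, one_mul] at he
  rw [← rmul_pt, V.act_rmul hF _ hu V.nT_pos, V.pi_zero u hu, V.act_root hF hj V.nT_pos,
    pt_congr L P (Nat.eq_of_beq_eq_true hm) _ (V.root_spec hj).1, P.inj he]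

theorem act_mul (x : Pt L P) {s t : Nat} (hs : s < L.nT) (ht : t < L.nT) :
    L.mulT s t < L.nT ∧ F t (F s x) = F (L.mulT s t) x := by
  obtain ⟨j, hj, u, hu, rfl⟩ := V.exists_root x
  have h0 := V.mul_ok j s t hj hs ht
  simp only [checkMul, force_eq, gate_eq, Bool.and_eq_true] at h0
  have hr := Nat.ble_eq.mp h0.1
  refine ⟨hr, ?_⟩
  have hs' := V.pi_lt u hu s hs
  have ht' := V.pi_lt u hu t ht
  have h := V.mul_ok j _ _ hj hs' ht'
  simp only [checkMul, force_eq, gate_eq, Bool.and_eq_true, V.pi_add u hu s t hs ht] at h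
  obtain ⟨-, h⟩ := h
  rw [← rmul_pt, V.act_rmul hF _ hu hs, V.act_rmul hF _ hu ht, V.act_rmul hF _ hu hr]
  congr 1
  rw [V.act_root hF hj hs', V.act_root hF hj (V.pi_lt u hu _ hr)]
  rw [← P.one, Cover.appP_tup (V.img_lt hj hs').2, one_mul] at h
  obtain ⟨m', hm', a', he, hk⟩ := V.step_spec hF (V.img_lt hj hs').1 ht' h
  simp only [Bool.and_eq_true] at hk
  obtain ⟨hme, hσ, hv⟩ := hk
  obtain rfl := Nat.eq_of_beq_eq_true hme
  obtain ⟨hσS, hσa⟩ := V.elS hm' hσ
  have hv := Nat.eq_of_beq_eq_true hv
  rw [appS, hσa, Cover.appP_tup (V.img_lt hj (V.pi_lt u hu _ hr)).2, one_mul] at hv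
  rw [he, pt_eq, P.inj hv, mul_inv_rev, ← mul_assoc, mul_inv_cancel, one_mul]
  exact inv_mem hσS

/-- The relator acts trivially. -/
theorem act_rel {R : LowRel} (W : RelValid L R P.toTab) (x : Pt L P) :
    (fun y => F R.τ (rmul L P y (P.el R.zW)))^[R.len] x = x := by
  set G := fun y => F R.τ (rmul L P y (P.el R.zW)) with hG
  obtain ⟨j, hj, u, hu, rfl⟩ := V.exists_root x
  let C := Subgroup.closure {x | ∃ i, i < R.nC ∧ x = P.el (R.cW i)}
  have hC : ∀ c ∈ C, c ∈ grpU L P ∧ c * P.el R.zW = P.el R.zW * c ∧ π c R.τ = R.τ := by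
    intro c hc
    have hc' : c ∈ Submonoid.closure {x | ∃ i, i < R.nC ∧ x = P.el (R.cW i)} := by
      rwa [← Subgroup.mem_toSubmonoid, Subgroup.closure_toSubmonoid_of_finite] at hc
    clear hc
    induction hc' using Submonoid.closure_induction with
    | mem x hx =>
      obtain ⟨i, hi, rfl⟩ := hx
      have h := W.c_ok i hi
      simp only [checkC, force_eq, gate_eq, Bool.and_eq_true] at h
      obtain ⟨hw, hp, he⟩ := h
      obtain ⟨hwp, hwU⟩ := V.elU hw
      have he := Nat.eq_of_beq_eq_true he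
      rw [← P.one, Cover.appP_tup hwp, Cover.appP_tup W.zok, Cover.appP_tup W.zok, Cover.appP_tup hwp,
        one_mul, one_mul] at he
      refine ⟨hwU, P.inj he, ?_⟩
      rw [← V.piW_eq hw W.tlt]
      exact Nat.eq_of_beq_eq_true hp
    | one => exact ⟨one_mem _, by simp, V.pi_one _⟩
    | mul a b _ _ iha ihb =>
      refine ⟨mul_mem iha.1 ihb.1, ?_, ?_⟩
      · rw [mul_assoc, ihb.2.1, ← mul_assoc, iha.2.1, mul_assoc]
      · rw [V.pi_mul a b iha.1 ihb.1 _ W.tlt, ihb.2.2, iha.2.2]
  -- every element of U is a representative times an element of C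
  obtain ⟨e, he, c, hc, rfl⟩ : ∃ e, e < R.nD ∧ ∃ c ∈ C, u = P.el (R.dW e) * c := by
    let S : Set Q := {y | ∃ e, e < R.nD ∧ ∃ c ∈ C, y = P.el (R.dW e) * c}
    have h1 : (1 : Q) ∈ S := ⟨0, W.d_zero.1, 1, one_mem _, by
      simp [W.d_zero.2, QModel.el, val, valW]⟩
    have := mem_closure_mul (R := S) ?_ hu h1
    · simpa [S] using this
    rintro _ ⟨g, hg, rfl⟩ _ ⟨e, he, c, hc, rfl⟩
    have h := W.dd_ok g e hg he
    simp only [checkD, force_eq, gate_eq, Bool.and_eq_true] at h
    obtain ⟨hd, hw, heq⟩ := h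
    have hd := Nat.ble_eq.mp hd
    have hcok : ∀ i, i < R.nC → Cover.okP P.toTab (R.cW i) = true := fun i hi => by
      have h := W.c_ok i hi
      simp only [checkC, force_eq, gate_eq, Bool.and_eq_true] at h
      exact (V.elU h.1).1
    have heq := Nat.eq_of_beq_eq_true heq
    rw [← P.one, ← P.step _ g (lt_of_lt_of_le hg V.hnU), one_mul, Cover.appP_tup (V.elU (W.d_ok e he)).1,
      Cover.appP_tup (V.elU (W.d_ok _ hd)).1, one_mul, P.appI_tup _ hcok _ hw] at heq
    refine ⟨_, hd, _, mul_mem (valW_mem _ R.nC C (fun i hi => Subgroup.subset_closure ⟨i, hi, rfl⟩) _ _ hw)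
      hc, ?_⟩
    rw [← mul_assoc, P.inj heq, mul_assoc]
    rfl
  have hcomm : ∀ n y, G^[n] (rmul L P y c) = rmul L P (G^[n] y) c := by
    intro n
    induction n with
    | zero => intro y; rfl
    | succ n ih =>
      intro y
      rw [Function.iterate_succ_apply, Function.iterate_succ_apply, ← ih]
      congr 1
      simp only [hG]
      rw [rmul_mul, (hC c hc).2.1, ← rmul_mul, V.act_rmul hF _ (hC c hc).1 W.tlt, (hC c hc).2.2]
  rw [← mul_assoc, ← rmul_pt, hcomm]
  congr 1
  have h := W.rel_ok j e hj he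
  have hdp := (V.elU (W.d_ok e he)).1
  simp only [checkRel, force_eq] at h
  rw [← P.one, Cover.appP_tup (V.root_spec hj).2.2.2.1, one_mul, Cover.appP_tup hdp] at h
  have chain : ∀ n i m (hm : m < L.n) a (k : Nat → Nat → Bool),
      relChain L R P.toTab j e n i m (P.tup a) k = true →
        ∃ (m' : Nat) (hm' : m' < L.n) (a' : Q),
          G^[n] (pt L P hm a) = pt L P hm' a' ∧ k m' (P.tup a') = true := by
    intro n
    induction n with
    | zero => intro i m hm a k h; exact ⟨m, hm, a, rfl, h⟩
    | succ n ih =>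
      intro i m hm a k h
      change force (Cover.appP P.toTab (P.tup a) R.zW) (fun v' => stepK L P.toTab m v' R.τ (R.hC j e i)
        (R.hU j e i) fun m' v'' => relChain L R P.toTab j e n (Nat.succ i) m' v'' k) = true at h
      rw [force_eq, Cover.appP_tup W.zok] at h
      obtain ⟨m', hm', a', hstep, hk⟩ := V.step_spec hF hm W.tlt h
      obtain ⟨m'', hm'', a'', hrest, hk'⟩ := ih _ _ hm' _ _ hk
      refine ⟨m'', hm'', a'', ?_, hk'⟩
      rw [Function.iterate_succ_apply, show G (pt L P hm a) = pt L P hm' a' from hstep, hrest]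
  obtain ⟨m', hm', a', hit, hk⟩ := chain _ _ _ (V.root_spec hj).1 _ _ h
  rw [hit]
  simp only [gate_eq, Bool.and_eq_true] at hk
  obtain ⟨hme, hσ, hv⟩ := hk
  obtain rfl := Nat.eq_of_beq_eq_true hme
  obtain ⟨hσS, hσa⟩ := V.elS hm' hσ
  have hv := Nat.eq_of_beq_eq_true hv
  rw [appS, hσa, Cover.appP_tup (V.root_spec hj).2.2.2.1, Cover.appP_tup hdp, one_mul] at hv
  rw [pt_eq, P.inj hv]
  simpa [mul_assoc] using inv_mem hσS

/-- A set of points with the first node that is closed under both actions is everything. -/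
theorem reach {src w t hc hu : Nat → Nat}
    (hchk : ∀ m, m < L.n → checkReach L P.toTab src w t hc hu m = true) (S : Set (Pt L P))
    (hn : 0 < L.n) (h0 : pt L P hn 1 ∈ S) (hmul : ∀ x ∈ S, ∀ q, rmul L P x q ∈ S)
    (hact : ∀ x ∈ S, ∀ t, t < L.nT → F t x ∈ S) : ∀ x, x ∈ S := by
  have key : ∀ m (hm : m < L.n), pt L P hm 1 ∈ S := by
    intro m
    induction m using Nat.strong_induction_on with
    | _ m ih =>
      intro hm
      rcases Nat.eq_zero_or_pos m with rfl | hpos
      · exact h0
      · have h := hchk m hm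
        have hb : Nat.beq m 0 = false := by
          cases hb : Nat.beq m 0
          · rfl
          · exact absurd (Nat.eq_of_beq_eq_true hb) (by omega)
        simp only [checkReach, hb, force_eq, gate_eq, Bool.and_eq_true] at h
        obtain ⟨hlt, hw, ht, hstep⟩ := h
        have hlt := Nat.ble_eq.mp hlt
        have hsm : src m < L.n := lt_trans hlt hm
        rw [← P.one, Cover.appP_tup hw, one_mul] at hstep
        obtain ⟨m', hm', a', he, hk⟩ := V.step_spec hF hsm (Nat.ble_eq.mp ht) hstep
        obtain rfl := Nat.eq_of_beq_eq_true hk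
        have h1 : rmul L P (pt L P hsm 1) (P.el (w m')) ∈ S := hmul _ (ih _ hlt hsm) _
        rw [rmul_pt, one_mul] at h1
        have h2 := hmul _ (hact _ h1 _ (Nat.ble_eq.mp ht)) a'⁻¹
        rw [he, rmul_pt, mul_inv_cancel] at h2
        exact h2
  intro x
  obtain ⟨m, hm, a, rfl⟩ := exists_pt L P x
  have := hmul _ (key m hm) a
  rwa [rmul_pt, one_mul] at this

omit hF

omit [Finite Q] V in
theorem card_pt [Finite Q] : Nat.card (Pt L P) = ∑ m : Fin L.n, (L.stab P m).index := by
  rw [Nat.card_sigma (β := fun m : Fin L.n => Quotient (QuotientGroup.rightRel (L.stab P m)))]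
  exact Finset.sum_congr rfl fun m _ =>
    Nat.card_congr (QuotientGroup.quotientRightRelEquivQuotientLeftRel _)

/-- The stabiliser is no larger than an orbit of cosets times the subgroup at a root. -/
theorem card_stab {j : Nat} (hj : j < L.nR) :
    Nat.card (L.stab P (L.rM j)) ≤
      (List.range L.nP).countP (fun c => Nat.beq (L.lJ (L.rM j) c) j) * Nat.card (grpW L P j) := by
  classical
  obtain ⟨hm, -, -, -, -⟩ := V.root_spec hj
  choose c hc hJ v hv he hw using fun s : L.stab P (L.rM j) => V.stab_root hj s.2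
  let O := {c : Fin L.nP // Nat.beq (L.lJ (L.rM j) c) j = true}
  let Φ : L.stab P (L.rM j) → O × grpW L P j :=
    fun s => (⟨⟨c s, hc s⟩, by simp [hJ s]⟩, ⟨P.el (L.lU (L.rM j) (c s)) * v s, hw s⟩)
  have hΦ : Function.Injective Φ := by
    intro s s' h
    have h1 : c s = c s' := congrArg (fun p : O × grpW L P j => p.1.1.1) h
    have h2 : P.el (L.lU (L.rM j) (c s)) * v s = P.el (L.lU (L.rM j) (c s')) * v s' :=
      congrArg (fun p : O × grpW L P j => p.2.1) h
    rw [← h1, mul_right_inj] at h2
    have := he s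
    rw [h2, h1, ← he s'] at this
    exact Subtype.ext (mul_right_cancel this)
  refine le_trans (Nat.card_le_card_of_injective Φ hΦ) (le_of_eq ?_)
  rw [Nat.card_prod]
  congr 1
  rw [Nat.card_eq_fintype_card, Fintype.card_subtype, List.countP_eq_length_filter]
  rw [← List.toFinset_card_of_nodup ((List.nodup_range).filter _)]
  refine (Finset.card_bij (fun c _ => c.1) (by simp) (fun a _ b _ h => Fin.ext h) ?_)
  intro b hb
  simp only [List.mem_toFinset, List.mem_filter, List.mem_range] at hb
  exact ⟨⟨b, hb.1⟩, by simpa using hb.2, rfl⟩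

end Valid

end Low

end Cfsg.Agent.DCoset
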