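import Cfsg.Agent.DCoset.Count

/-!
A bound on the involutions of a subgroup inside a product of two tabulated subgroups.

The first has odd exponent and is normalised by the second, the second has exponent prime to it.
-/

set_option autoImplicit false

namespace Cfsg.Agent.DCoset

open Cfsg.Agent.CosetCert

/-- A subgroup by a list of words closed under multiplication by its generators. -/
structure Part where
  nEl : Nat
  elW : Nat → Nat
  nGen : Nat
  genW : Nat → Nat
  next : Nat → Nat → Nat
  par : Nat → Nat
  via : Nat → Nat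
  expo : Nat

/-- The data of a bound. -/
structure InvCert where
  A : Part
  B : Part
  /-- moving a generator of `A` past a generator of `B` -/
  norm : Nat → Nat → Nat
  nS : Nat
  sW : Nat → Nat
  decA : Nat → Nat
  decB : Nat → Nat

namespace InvCert

variable (P : Tab)

/-- Repeated application of a word. -/
noncomputable def rep (v w : Nat) : Nat → Nat :=
  fun n => Nat.rec v (fun _ ih => P.app ih w) n

/-- The list of a part is closed and has the exponent. -/
noncomputable def checkPart (A : Part) (i : Nat) : Bool :=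
  force (A.elW i) fun w => gate (P.okWord w)
    (gate (Nat.beq (rep P P.base w A.expo) P.base)
      (force (P.app P.base w) fun v => allFrom (fun a => force (A.next i a) fun d =>
        gate (Nat.blt d A.nEl) (Nat.beq (P.app v (A.genW a)) (P.app P.base (A.elW d)))) 0 A.nGen))

/-- An element of a part is reached from an earlier one by a generator. -/
noncomputable def checkPar (A : Part) (i : Nat) : Bool :=
  Bool.rec (motive := fun _ => Bool)
    (force (A.par i) fun p => force (A.via i) fun a => gate (Nat.blt p i) (gate (Nat.blt a A.nGen)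
      (Nat.beq (P.app (P.app P.base (A.elW p)) (A.genW a)) (P.app P.base (A.elW i)))))
    true (Nat.beq i 0)

/-- The first word of a part is trivial and the generators are spelled. -/
noncomputable def checkGens (A : Part) : Bool :=
  gate (Nat.blt 0 A.nEl) (gate (Nat.beq (P.app P.base (A.elW 0)) P.base)
    (allFrom (fun a => P.okWord (A.genW a)) 0 A.nGen))

variable (C : InvCert)

/-- The generators of `B` normalise `A`. -/
noncomputable def checkNorm (b : Nat) : Bool :=
  allFrom (fun a => force (C.norm b a) fun d => gate (Nat.blt d C.A.nEl)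
    (Nat.beq (P.app (P.app P.base (C.A.genW a)) (C.B.genW b))
      (P.app (P.app P.base (C.B.genW b)) (C.A.elW d)))) 0 C.A.nGen

/-- A generator of the subgroup decomposes. -/
noncomputable def checkDec (s : Nat) : Bool :=
  gate (Nat.blt (C.decA s) C.A.nEl) (gate (Nat.blt (C.decB s) C.B.nEl) (gate (P.okWord (C.sW s))
    (Nat.beq (P.app P.base (C.sW s)) (P.app (P.app P.base (C.A.elW (C.decA s))) (C.B.elW (C.decB s))))))

/-- The element of the second part squares to one and is not one. -/
noncomputable def isInv (j : Nat) : Bool :=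
  force (C.B.elW j) fun w => force (P.app P.base w) fun v =>
    gate (Nat.beq (P.app v w) P.base)
      (Bool.rec (motive := fun _ => Bool) true false (Nat.beq v P.base))

/-- All conditions. -/
structure Valid : Prop where
  a_ok : checkGens P C.A = true
  b_ok : checkGens P C.B = true
  a_el : ∀ i, i < C.A.nEl → checkPart P C.A i = true
  b_el : ∀ i, i < C.B.nEl → checkPart P C.B i = true
  a_par : ∀ i, i < C.A.nEl → checkPar P C.A i = true
  b_par : ∀ i, i < C.B.nEl → checkPar P C.B i = true
  norm_ok : ∀ b, b < C.B.nGen → checkNorm P C b = true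
  dec_ok : ∀ s, s < C.nS → checkDec P C s = true
  odd : Odd C.A.expo
  coprime : Nat.Coprime C.A.expo C.B.expo

variable {P C} {Q : Type*} [Group Q]

theorem app_tup (M : QModel Q) {w : Nat} (hw : M.toTab.okWord w = true) (a : Q) :
    M.toTab.app (M.tup a) w = M.tup (a * M.el w) := by
  rw [Tab.app, force_eq]
  exact (M.tup_mul_word _ _ _ hw).symm

theorem app_base (M : QModel Q) {w : Nat} (hw : M.toTab.okWord w = true) :
    M.toTab.app M.base w = M.tup (M.el w) := by
  rw [← M.one, app_tup M hw, one_mul]

theorem rep_tup (M : QModel Q) {w : Nat} (hw : M.toTab.okWord w = true) :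
    ∀ n, rep M.toTab M.base w n = M.tup (M.el w ^ n)
  | 0 => by rw [pow_zero, M.one]; rfl
  | n + 1 => by
    show M.toTab.app (rep M.toTab M.base w n) w = _
    rw [rep_tup M hw n, app_tup M hw, pow_succ]

variable (M : QModel Q)

/-- The elements of a part. -/
def partSet (A : Part) : Set Q := {x | ∃ i, i < A.nEl ∧ x = M.el (A.elW i)}

/-- The subgroup of a part. -/
def partGrp (A : Part) : Subgroup Q := Subgroup.closure {x | ∃ a, a < A.nGen ∧ x = M.el (A.genW a)}

theorem part_sub [Finite Q] {A : Part} (h0 : checkGens M.toTab A = true)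
    (he : ∀ i, i < A.nEl → checkPart M.toTab A i = true) :
    (∀ x ∈ partGrp M A, x ∈ partSet M A) ∧ ∀ x ∈ partSet M A, x ^ A.expo = 1 := by
  simp only [checkGens, gate_eq, Bool.and_eq_true] at h0
  obtain ⟨hpos, h1, hg⟩ := h0
  have hok : ∀ i, i < A.nEl → M.toTab.okWord (A.elW i) = true := fun i hi => by
    have h := he i hi
    simp only [checkPart, force_eq, gate_eq, Bool.and_eq_true] at h
    exact h.1
  refine ⟨fun x hx => ?_, ?_⟩
  · have hgen : ∀ y ∈ partSet M A, ∀ a, a < A.nGen → y * M.el (A.genW a) ∈ partSet M A := by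
      rintro _ ⟨i, hi, rfl⟩ a ha
      have h := he i hi
      simp only [checkPart, force_eq, gate_eq, Bool.and_eq_true] at h
      have h2 := (allFrom_iff _ _ _).1 h.2.2 a (Nat.zero_le _) (by omega)
      simp only [force_eq, gate_eq, Bool.and_eq_true] at h2
      have hd := Nat.ble_eq.mp h2.1
      have e := Nat.eq_of_beq_eq_true h2.2
      have hga := (allFrom_iff _ _ _).1 hg a (Nat.zero_le _) (by omega)
      rw [app_base M (hok i hi), app_tup M hga, app_base M (hok _ hd)] at e
      exact ⟨_, hd, M.inj e⟩
    have hone : (1 : Q) ∈ partSet M A := by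
      refine ⟨0, Nat.ble_eq.mp hpos, ?_⟩
      have e := Nat.eq_of_beq_eq_true h1
      rw [app_base M (hok 0 (Nat.ble_eq.mp hpos)), ← M.one] at e
      exact (M.inj e).symm
    have hx' : x ∈ (partGrp M A).toSubmonoid := hx
    rw [partGrp, Subgroup.closure_toSubmonoid_of_finite] at hx'
    clear hx
    induction hx' using Submonoid.closure_induction_right with
    | one => exact hone
    | mul_right y _ z hz ih =>
      obtain ⟨a, ha, rfl⟩ := hz
      exact hgen y ih a ha
  · rintro _ ⟨i, hi, rfl⟩
    have h := he i hi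
    simp only [checkPart, force_eq, gate_eq, Bool.and_eq_true] at h
    have e := Nat.eq_of_beq_eq_true h.2.1
    rw [rep_tup M (hok i hi), ← M.one] at e
    exact M.inj e

theorem part_mem {A : Part} (h0 : checkGens M.toTab A = true)
    (he : ∀ i, i < A.nEl → checkPart M.toTab A i = true)
    (hp : ∀ i, i < A.nEl → checkPar M.toTab A i = true) :
    ∀ i, i < A.nEl → M.el (A.elW i) ∈ partGrp M A := by
  simp only [checkGens, gate_eq, Bool.and_eq_true] at h0
  obtain ⟨hpos, h1, hg⟩ := h0
  have hok : ∀ i, i < A.nEl → M.toTab.okWord (A.elW i) = true := fun i hi => by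
    have h := he i hi
    simp only [checkPart, force_eq, gate_eq, Bool.and_eq_true] at h
    exact h.1
  intro i
  induction i using Nat.strong_induction_on with
  | _ i ih =>
    intro hi
    have h := hp i hi
    simp only [checkPar] at h
    rcases Nat.eq_zero_or_pos i with rfl | hi0
    · have e := Nat.eq_of_beq_eq_true h1
      rw [app_base M (hok 0 hi), ← M.one] at e
      rw [M.inj e]
      exact one_mem _
    · have hb : Nat.beq i 0 = false := by
        cases hb : Nat.beq i 0
        · rfl
        · exact absurd (Nat.eq_of_beq_eq_true hb) (by omega)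
      rw [hb] at h
      simp only [force_eq, gate_eq, Bool.and_eq_true] at h
      obtain ⟨hp', ha, e⟩ := h
      have hp' := Nat.ble_eq.mp hp'
      have ha := Nat.ble_eq.mp ha
      have hga := (allFrom_iff _ _ _).1 hg _ (Nat.zero_le _) (by omega : A.via i < 0 + A.nGen)
      have e := Nat.eq_of_beq_eq_true e
      rw [app_base M (hok _ (by omega)), app_tup M hga, app_base M (hok i hi)] at e
      rw [← M.inj e]
      exact mul_mem (ih _ (by omega) (by omega)) (Subgroup.subset_closure ⟨_, ha, rfl⟩)

/-- The bound. -/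
theorem card_invol_le [Finite Q] (hV : C.Valid M.toTab) (S : Subgroup Q)
    (hS : S = Subgroup.closure {x | ∃ s, s < C.nS ∧ x = M.el (C.sW s)}) :
    Nat.card {s : Q // s ∈ S ∧ orderOf s = 2} ≤
      C.A.nEl * (List.range C.B.nEl).countP (isInv M.toTab C) := by
  classical
  obtain ⟨hAs, hAe⟩ := part_sub M hV.a_ok hV.a_el
  obtain ⟨hBs, hBe⟩ := part_sub M hV.b_ok hV.b_el
  have hA := part_mem M hV.a_ok hV.a_el hV.a_par
  have hB := part_mem M hV.b_ok hV.b_el hV.b_par
  have hokA : ∀ i, i < C.A.nEl → M.toTab.okWord (C.A.elW i) = true := fun i hi => by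
    have h := hV.a_el i hi
    simp only [checkPart, force_eq, gate_eq, Bool.and_eq_true] at h
    exact h.1
  have hokB : ∀ i, i < C.B.nEl → M.toTab.okWord (C.B.elW i) = true := fun i hi => by
    have h := hV.b_el i hi
    simp only [checkPart, force_eq, gate_eq, Bool.and_eq_true] at h
    exact h.1
  have hgA : ∀ a, a < C.A.nGen → M.toTab.okWord (C.A.genW a) = true := fun a ha => by
    have h := hV.a_ok
    simp only [checkGens, gate_eq, Bool.and_eq_true] at h
    exact (allFrom_iff _ _ _).1 h.2.2 a (Nat.zero_le _) (by omega)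
  have hgB : ∀ a, a < C.B.nGen → M.toTab.okWord (C.B.genW a) = true := fun a ha => by
    have h := hV.b_ok
    simp only [checkGens, gate_eq, Bool.and_eq_true] at h
    exact (allFrom_iff _ _ _).1 h.2.2 a (Nat.zero_le _) (by omega)
  set GA := partGrp M C.A with hGA
  set GB := partGrp M C.B with hGB
  have hnorm : GB ≤ Subgroup.normalizer (GA : Set Q) := by
    rw [hGB, partGrp, Subgroup.closure_le]
    rintro r ⟨b, hb, rfl⟩
    have hle : GA ≤ GA.comap (MulAut.conj (M.el (C.B.genW b))⁻¹).toMonoidHom := by
      rw [hGA, partGrp, Subgroup.closure_le]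
      rintro _ ⟨a, ha, rfl⟩
      have h := hV.norm_ok b hb
      simp only [checkNorm] at h
      have h2 := (allFrom_iff _ _ _).1 h a (Nat.zero_le _) (by omega)
      simp only [force_eq, gate_eq, Bool.and_eq_true] at h2
      have hd := Nat.ble_eq.mp h2.1
      have e := Nat.eq_of_beq_eq_true h2.2
      rw [app_base M (hgA a ha), app_tup M (hgB b hb), app_base M (hgB b hb), app_tup M (hokA _ hd)] at e
      show MulAut.conj (M.el (C.B.genW b))⁻¹ (M.el (C.A.genW a)) ∈ GA
      rw [MulAut.conj_apply, inv_inv, mul_assoc, M.inj e, inv_mul_cancel_left]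
      exact hA _ hd
    have hmem : (M.el (C.B.genW b))⁻¹ ∈ Subgroup.normalizer (GA : Set Q) := by
      have heq : GA.map (MulAut.conj (M.el (C.B.genW b))⁻¹).toMonoidHom = GA :=
        Subgroup.eq_of_le_of_card_ge (Subgroup.map_le_iff_le_comap.2 hle)
          (le_of_eq (Subgroup.card_map_of_injective (MulEquiv.injective _)).symm)
      rw [Subgroup.mem_normalizer_iff]
      intro n
      have hiff : MulAut.conj (M.el (C.B.genW b))⁻¹ n ∈
          GA.map (MulAut.conj (M.el (C.B.genW b))⁻¹).toMonoidHom ↔ n ∈ GA :=
        ⟨fun ⟨y, hy, hye⟩ => (MulEquiv.injective _ hye) ▸ hy, fun h => Subgroup.mem_map_of_mem _ h⟩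
      rw [heq, MulAut.conj_apply] at hiff
      exact hiff.symm
    simpa using inv_mem hmem
  have hSsub : ∀ x ∈ S, ∃ a ∈ GA, ∃ b ∈ GB, x = a * b := by
    intro x hx
    have hle : S ≤ GA ⊔ GB := by
      rw [hS, Subgroup.closure_le]
      rintro _ ⟨s, hs, rfl⟩
      have h := hV.dec_ok s hs
      simp only [checkDec, gate_eq, Bool.and_eq_true] at h
      obtain ⟨h1, h2, h3, h4⟩ := h
      have e := Nat.eq_of_beq_eq_true h4
      rw [app_base M h3, app_base M (hokA _ (Nat.ble_eq.mp h1)),
        app_tup M (hokB _ (Nat.ble_eq.mp h2))] at e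
      rw [M.inj e]
      exact mul_mem (Subgroup.mem_sup_left (hA _ (Nat.ble_eq.mp h1)))
        (Subgroup.mem_sup_right (hB _ (Nat.ble_eq.mp h2)))
    have h2 := hle hx
    rw [← SetLike.mem_coe, Subgroup.coe_mul_of_right_le_normalizer_left GA GB hnorm] at h2
    obtain ⟨a, ha, b, hb, rfl⟩ := h2
    exact ⟨a, ha, b, hb, rfl⟩
  let J := (Finset.range C.B.nEl).filter fun j => isInv M.toTab C j = true
  let T := (Finset.range C.A.nEl) ×ˢ J
  have hcov : ∀ s : {s : Q // s ∈ S ∧ orderOf s = 2}, ∃ p : T,
      s.1 = M.el (C.A.elW p.1.1) * M.el (C.B.elW p.1.2) := by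
    rintro ⟨s, hs, ho⟩
    obtain ⟨a, ha, b, hb, rfl⟩ := hSsub s hs
    obtain ⟨i, hi, rfl⟩ := hAs a ha
    obtain ⟨j, hj, rfl⟩ := hBs b hb
    set a := M.el (C.A.elW i)
    set b := M.el (C.B.elW j)
    have hsq : a * b * (a * b) = 1 := by rw [← pow_two, ← ho, pow_orderOf_eq_one]
    have hbab : b * a * b = a⁻¹ := by
      apply eq_inv_of_mul_eq_one_right
      calc a * (b * a * b) = a * b * (a * b) := by group
        _ = 1 := hsq
    have hbbA : b * b ∈ GA := by
      have hc : b⁻¹ * a⁻¹ * b ∈ GA := by
        have := (Subgroup.mem_normalizer_iff''.1 (hnorm hb) a⁻¹).1 (inv_mem ha)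
        exact this
      have e : b * b = a⁻¹ * (b⁻¹ * a⁻¹ * b) :=
        calc b * b = b * a * b * (b⁻¹ * a⁻¹ * b) := by group
          _ = a⁻¹ * (b⁻¹ * a⁻¹ * b) := by rw [hbab]
      exact e ▸ mul_mem (inv_mem ha) hc
    have hbb : b * b = 1 := by
      have h1 := hAe _ (hAs _ hbbA)
      have h2 := hBe _ (hBs _ (mul_mem hb hb))
      have h3 : (b * b) ^ Nat.gcd C.A.expo C.B.expo = 1 := pow_gcd_eq_one.2 ⟨h1, h2⟩
      rwa [hV.coprime.gcd_eq_one, pow_one] at h3
    have hb1 : b ≠ 1 := fun e => by
      rw [e, mul_one] at ho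
      have h1 := hAe a (hAs a ha)
      have : orderOf a ∣ C.A.expo := orderOf_dvd_of_pow_eq_one h1
      rw [ho] at this
      exact absurd hV.odd (Nat.not_odd_iff_even.2 (even_iff_two_dvd.2 this))
    have hinv : isInv M.toTab C j = true := by
      simp only [isInv, force_eq, gate_eq, Bool.and_eq_true]
      refine ⟨?_, ?_⟩
      · rw [app_base M (hokB j hj), app_tup M (hokB j hj), hbb, M.one]
        exact Nat.beq_refl _
      · rw [app_base M (hokB j hj)]
        cases hh : Nat.beq (M.tup b) M.base
        · rfl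
        · exact absurd (M.inj ((Nat.eq_of_beq_eq_true hh).trans M.one.symm)) hb1
    exact ⟨⟨(i, j), Finset.mem_product.2 ⟨Finset.mem_range.2 hi,
      Finset.mem_filter.2 ⟨Finset.mem_range.2 hj, hinv⟩⟩⟩, rfl⟩
  choose f hf using hcov
  refine le_trans (Nat.card_le_card_of_injective f fun s s' h => Subtype.ext (by rw [hf s, hf s', h])) ?_
  rw [Nat.card_eq_finsetCard, Finset.card_product, Finset.card_range]
  refine Nat.mul_le_mul_left _ (le_of_eq ?_)
  rw [List.countP_eq_length_filter, ← List.toFinset_card_of_nodup (List.nodup_range.filter _)]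
  congr 1
  ext x
  simp [J]

end InvCert

end Cfsg.Agent.DCoset
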