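import Cfsg.Agent.DCoset.Emit

/-! Joining checks of consecutive pieces with the total given outright. -/

namespace Cfsg.Agent.DCoset

open Cfsg.Agent.CosetCert

/-- Two consecutive pieces; the end of the second is `N`. -/
theorem allFrom_join {p : Nat → Bool} (a n N : Nat) (e : a + n = N) (h : allFrom p 0 a = true)
    (h' : allFrom p a n = true) : allFrom p 0 N = true := e ▸ allFrom_append a h h'

end Cfsg.Agent.DCoset
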