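import Cfsg.Agent.DCoset.Cover
import Cfsg.Agent.DCoset.Emit

/-!
An action built from finished double coset tables.

The points are the right cosets of the stabilisers of the listed nodes in the model.  A subgroup `U`
generated by the first `nU` letters permutes the extra letters and commutes them past itself unchanged, so
an extra letter is determined by its images at the root points of the `U`-orbits.
-/

namespace Cfsg.Agent.DCoset

open Cfsg.Agent.CosetCert

/-- A tuple times a word spelled by indices into a table of words. -/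
noncomputable def appI (P : Tab) (g : Nat → Nat) (v w : Nat) : Nat :=
  force v fun v => foldW (fun i v => Cover.appP P v (g i)) (wLen w) (wBody w) v

/-- The tables. -/
structure Low where
  n : Nat
  nStab : Nat → Nat
  stabW : Nat → Nat → Nat
  nU : Nat
  nP : Nat
  /-- representatives of the left cosets of `U` -/
  ep : Nat → Nat
  /-- `letter g * ep c = ep (leftD g c) * leftU g c` -/
  leftD : Nat → Nat → Nat
  leftU : Nat → Nat → Nat
  nR : Nat
  rM : Nat → Nat
  rW : Nat → Nat
  rC : Nat → Nat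
  /-- `ep c = lS * rW (lJ) * lU` at a node -/
  lJ : Nat → Nat → Nat
  lS : Nat → Nat → Nat
  lU : Nat → Nat → Nat
  /-- Schreier data of the stabiliser acting on the left cosets -/
  sgD : Nat → Nat → Nat → Nat
  sgV : Nat → Nat → Nat → Nat
  sgO : Nat → Nat → Nat → Nat
  nW : Nat → Nat
  wW : Nat → Nat → Nat
  wS : Nat → Nat → Nat
  /-- a word separating a coset from the others -/
  hw : Nat → Nat
  inB : Nat → Bool
  nT : Nat
  piLet : Nat → Nat → Nat
  mulT : Nat → Nat → Nat
  iM : Nat → Nat → Nat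
  iW : Nat → Nat → Nat
  cpS : Nat → Nat → Nat → Nat
  mC : Nat → Nat → Nat → Nat
  mU : Nat → Nat → Nat → Nat
  mS : Nat → Nat → Nat → Nat

namespace Low

variable (L : Low) (P : Tab)

/-- A word in the stabiliser of node `m`, applied. -/
noncomputable def appS (m v w : Nat) : Nat := appI P (L.stabW m) v w

/-- A word in the letters of `U`. -/
noncomputable def okU (w : Nat) : Bool := lettersBelow L.nU (wLen w) (wBody w)

/-- A word in the stabiliser of node `m`. -/
noncomputable def okS (m w : Nat) : Bool := lettersBelow (L.nStab m) (wLen w) (wBody w)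

/-- The permutation of the extra letters by `n` packed letters. -/
noncomputable def piN : Nat → Nat → Nat → Nat :=
  fun n => Nat.rec (fun _ t => t)
    (fun _ ih w t => force (ih (Nat.div w 256) t) fun s => L.piLet (Nat.mod w 256) s) n

/-- The permutation of the extra letters by a packed word. -/
noncomputable def piW (w t : Nat) : Nat := piN L (wLen w) (wBody w) t

/-- The left cosets are closed under letters. -/
noncomputable def checkLeft (g c : Nat) : Bool :=
  force (L.leftD g c) fun d => force (L.leftU g c) fun u => gate (Nat.blt d L.nP)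
    (gate (okU L u) (Nat.beq (Cover.appP P (mapTup (P.act g) P.k P.base) (L.ep c))
      (Cover.appP P (Cover.appP P P.base (L.ep d)) u)))

/-- Position of a left coset at a node. -/
noncomputable def checkLoc (m c : Nat) : Bool :=
  force (L.lJ m c) fun j => force (L.lS m c) fun s => force (L.lU m c) fun u =>
    gate (Nat.blt j L.nR) (gate (Nat.beq (L.rM j) m) (gate (okS L m s) (gate (okU L u)
      (Nat.beq (Cover.appP P P.base (L.ep c))
        (Cover.appP P (Cover.appP P (appS L P m P.base s) (L.rW j)) u)))))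

/-- The basic facts at a root. -/
noncomputable def checkRoot (j : Nat) : Bool :=
  force (L.rM j) fun m => force (L.rC j) fun c => gate (Nat.blt m L.n) (gate (Nat.blt c L.nP)
    (gate (Cover.okP P (L.rW j)) (gate (Nat.beq (L.lJ m c) j) (Nat.beq (L.lS m c) 0))))

/-- Generator `b` at root `j` lies in the stabiliser. -/
noncomputable def checkW (j b : Nat) : Bool :=
  force (L.wW j b) fun w => force (L.wS j b) fun s => gate (okU L w) (gate (okS L (L.rM j) s)
    (Nat.beq (Cover.appP P (Cover.appP P P.base (L.rW j)) w)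
      (Cover.appP P (appS L P (L.rM j) P.base s) (L.rW j))))

/-- A stabiliser generator moves a left coset within its orbit, up to the generators at the root. -/
noncomputable def checkSch (m c a : Nat) : Bool :=
  force (L.lJ m c) fun j => force (L.sgD m c a) fun d => force (L.sgV m c a) fun v =>
    force (L.sgO m c a) fun o => gate (Nat.blt d L.nP) (gate (Nat.beq (L.lJ m d) j) (gate (okU L v)
      (gate (lettersBelow (L.nW j) (wLen o) (wBody o))
        (gate (Nat.beq (Cover.appP P (Cover.appP P P.base (L.stabW m a)) (L.ep c))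
            (Cover.appP P (Cover.appP P P.base (L.ep d)) v))
          (Nat.beq (Cover.appP P (Cover.appP P P.base (L.lU m d)) v)
            (Cover.appP P (appI P (L.wW j) P.base o) (L.lU m c)))))))

/-- The separating word puts coset `c` in the block and the other roots outside. -/
noncomputable def checkSep (c : Nat) : Bool :=
  force (L.hw c) fun h => gate (Cover.okP P h)
    (force (Cover.appP P P.base h) fun v => gate (L.inB (fld (Cover.appP P v (L.ep c)) 0))
      (allFrom (fun j => Bool.rec (motive := fun _ => Bool)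
        (Bool.rec (motive := fun _ => Bool) true false (L.inB (fld (Cover.appP P v (L.rW j)) 0)))
        true (Nat.beq (L.rC j) c)) 0 L.nR))

/-- The image of a root under an extra letter. -/
noncomputable def checkImg (j t : Nat) : Bool :=
  gate (Nat.blt (L.iM j t) L.n) (Cover.okP P (L.iW j t))

/-- The image of a root under an extra letter respects the generators at the root. -/
noncomputable def checkCompat (j b t : Nat) : Bool :=
  force (L.wW j b) fun w => force (piW L w t) fun t' => force (L.iM j t) fun m =>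
    force (L.cpS j b t) fun s => gate (Nat.beq (L.iM j t') m) (gate (okS L m s)
      (Nat.beq (Cover.appP P (Cover.appP P P.base (L.iW j t')) w)
        (Cover.appP P (appS L P m P.base s) (L.iW j t))))

/-- Apply an extra letter to the point of node `m` given by a tuple, with its coset named. -/
noncomputable def stepK (m v t c u : Nat) (k : Nat → Nat → Bool) : Bool :=
  gate (Nat.blt c L.nP) (gate (okU L u)
    (gate (Nat.beq v (Cover.appP P (Cover.appP P P.base (L.ep c)) u))
      (force (L.lJ m c) fun j => force (L.lU m c) fun l =>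
        force (piW L l (piW L u t)) fun t' =>
          force (Cover.appP P (Cover.appP P (Cover.appP P P.base (L.iW j t')) l) u) fun v' =>
            k (L.iM j t') v')))

/-- Two extra letters in a row at a root act as their product. -/
noncomputable def checkMul (j s t : Nat) : Bool :=
  force (L.mulT s t) fun r => force (L.mS j s t) fun σ =>
    gate (Nat.blt r L.nT)
      (stepK L P (L.iM j s) (Cover.appP P P.base (L.iW j s)) t (L.mC j s t) (L.mU j s t) fun m v =>
        gate (Nat.beq m (L.iM j r)) (gate (okS L m σ)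
          (Nat.beq v (Cover.appP P (appS L P m P.base σ) (L.iW j r)))))

/-- The letter `0` fixes a root. -/
noncomputable def checkZero (j : Nat) : Bool :=
  gate (Nat.beq (L.iM j 0) (L.rM j))
    (Nat.beq (Cover.appP P P.base (L.iW j 0)) (Cover.appP P P.base (L.rW j)))

end Low

variable {Q : Type*} [Group Q]

/-- The element of a word spelled by indices into a table of words. -/
def QModel.elI (P : QModel Q) (g : Nat → Nat) (w : Nat) : Q := val (fun i => P.el (g i)) w

theorem QModel.appI_tup (P : QModel Q) (g : Nat → Nat) {N : Nat}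
    (hg : ∀ i, i < N → Cover.okP P.toTab (g i) = true) (w : Nat)
    (hw : lettersBelow N (wLen w) (wBody w) = true) (a : Q) :
    appI P.toTab g (P.tup a) w = P.tup (a * P.elI g w) := by
  rw [appI, force_eq, QModel.elI, val]
  change foldW _ (w % 65536) (w / 65536) _ = _
  change lettersBelow N (w % 65536) (w / 65536) = true at hw
  revert hw
  generalize w % 65536 = n, w / 65536 = u
  induction n generalizing u a with
  | zero => intro _; simp [valW, foldW]
  | succ n ih =>
    intro hw
    rw [lettersBelow_succ, Bool.and_eq_true] at hw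
    rw [foldW_succ, Cover.appP_tup (hg _ (Nat.ble_eq.mp hw.1)), ih _ _ hw.2, valW, mul_assoc]

/-- The first point of a tuple. -/
noncomputable def QModel.pt0 (P : QModel Q) (a : Q) : Nat := fld (P.tup a) 0

namespace Low

variable (L : Low) (P : QModel Q)

/-- The stabiliser of a node. -/
def stab (m : Nat) : Subgroup Q :=
  Subgroup.closure {x | ∃ a, a < L.nStab m ∧ x = P.el (L.stabW m a)}

/-- The subgroup generated by the first letters. -/
def grpU : Subgroup Q := Subgroup.closure {x | ∃ g, g < L.nU ∧ x = P.q g}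

/-- The subgroup of the generators at a root. -/
def grpW (j : Nat) : Subgroup Q := Subgroup.closure {x | ∃ b, b < L.nW j ∧ x = P.el (L.wW j b)}

/-- All conditions on the tables. -/
structure Valid (π : Q → Nat → Nat) : Prop where
  hk : 0 < P.k
  hnU : L.nU ≤ P.nL
  gens : Subgroup.closure {x | ∃ g, g < P.nL ∧ x = P.q g} = ⊤
  ep_zero : 0 < L.nP ∧ L.ep 0 = 0
  ep_ok : ∀ c, c < L.nP → Cover.okP P.toTab (L.ep c) = true
  stab_ok : ∀ m a, m < L.n → a < L.nStab m → Cover.okP P.toTab (L.stabW m a) = true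
  left_ok : ∀ g c, g < P.nL → c < L.nP → checkLeft L P.toTab g c = true
  loc_ok : ∀ m c, m < L.n → c < L.nP → checkLoc L P.toTab m c = true
  root_ok : ∀ j, j < L.nR → checkRoot L P.toTab j = true
  w_ok : ∀ j b, j < L.nR → b < L.nW j → checkW L P.toTab j b = true
  sch_ok : ∀ m c a, m < L.n → c < L.nP → a < L.nStab m → checkSch L P.toTab m c a = true
  sep_ok : ∀ c, c < L.nP → checkSep L P.toTab c = true
  block : ∀ g, g < L.nU → ∀ p, L.inB p = true → L.inB (P.act g p) = true
  pi_one : ∀ t, π 1 t = t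
  pi_mul : ∀ u v, u ∈ grpU L P → v ∈ grpU L P → ∀ t, t < L.nT → π (u * v) t = π u (π v t)
  pi_let : ∀ g, g < L.nU → ∀ t, t < L.nT → L.piLet g t = π (P.q g) t
  pi_lt : ∀ u, u ∈ grpU L P → ∀ t, t < L.nT → π u t < L.nT
  pi_add : ∀ u, u ∈ grpU L P → ∀ s t, s < L.nT → t < L.nT →
    L.mulT (π u s) (π u t) = π u (L.mulT s t)
  pi_zero : ∀ u, u ∈ grpU L P → π u 0 = 0
  nT_pos : 0 < L.nT
  img_ok : ∀ j t, j < L.nR → t < L.nT → checkImg L P.toTab j t = true
  compat_ok : ∀ j b t, j < L.nR → b < L.nW j → t < L.nT → checkCompat L P.toTab j b t = true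
  mul_ok : ∀ j s t, j < L.nR → s < L.nT → t < L.nT → checkMul L P.toTab j s t = true
  zero_ok : ∀ j, j < L.nR → checkZero L P.toTab j = true

/-- The point of node `m` given by an element. -/
abbrev Pt : Type _ := Σ m : Fin L.n, Quotient (QuotientGroup.rightRel (L.stab P m))

/-- A point. -/
def pt {m : Nat} (hm : m < L.n) (a : Q) : Pt L P := ⟨⟨m, hm⟩, Quotient.mk'' a⟩

theorem pt_eq {m : Nat} (hm : m < L.n) {a b : Q} : pt L P hm a = pt L P hm b ↔ b * a⁻¹ ∈ L.stab P m := by
  rw [pt, pt, Sigma.mk.inj_iff]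
  simp only [heq_eq_eq, true_and]
  rw [Quotient.eq'', QuotientGroup.rightRel_apply]

theorem pt_inj {m m' : Nat} {hm : m < L.n} {hm' : m' < L.n} {a b : Q}
    (h : pt L P hm a = pt L P hm' b) : m = m' ∧ b * a⁻¹ ∈ L.stab P m := by
  obtain rfl : m = m' := congrArg (fun p : Pt L P => p.1.1) h
  exact ⟨rfl, (pt_eq L P hm).1 h⟩

theorem pt_congr {m m' : Nat} (e : m = m') (hm : m < L.n) (hm' : m' < L.n) (a : Q) :
    pt L P hm a = pt L P hm' a := by
  subst e
  rfl

/-- The action of the model on the points, from the right. -/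
def rmul (x : Pt L P) (q : Q) : Pt L P :=
  ⟨x.1, Quotient.map' (fun a => a * q) (fun a b h => by
    rw [QuotientGroup.rightRel_apply] at h ⊢
    simpa [mul_assoc] using h) x.2⟩

theorem rmul_pt {m : Nat} (hm : m < L.n) (a q : Q) : rmul L P (pt L P hm a) q = pt L P hm (a * q) := rfl

theorem exists_pt (x : Pt L P) : ∃ (m : Nat) (hm : m < L.n) (a : Q), x = pt L P hm a := by
  obtain ⟨⟨m, hm⟩, a⟩ := x
  induction a using Quotient.inductionOn' with
  | _ a => exact ⟨m, hm, a, rfl⟩

theorem rmul_mul (x : Pt L P) (q r : Q) : rmul L P (rmul L P x q) r = rmul L P x (q * r) := by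
  obtain ⟨m, hm, a, rfl⟩ := exists_pt L P x
  rw [rmul_pt, rmul_pt, rmul_pt, mul_assoc]

theorem rmul_one (x : Pt L P) : rmul L P x 1 = x := by
  obtain ⟨m, hm, a, rfl⟩ := exists_pt L P x
  rw [rmul_pt, mul_one]

variable {L P} [Finite Q] {π : Q → Nat → Nat}

omit [Finite Q] in
theorem tup_base : P.base = P.tup 1 := P.one.symm

theorem mem_closure_mul {A : Set Q} {R : Set Q} (h1 : ∀ a ∈ A, ∀ r ∈ R, a * r ∈ R) {x : Q}
    (hx : x ∈ Subgroup.closure A) {r : Q} (hr : r ∈ R) : x * r ∈ R := by
  have hm : x ∈ Submonoid.closure A := by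
    rwa [← Subgroup.closure_toSubmonoid_of_finite]
  induction hm using Submonoid.closure_induction generalizing r with
  | mem a ha => exact h1 a ha r hr
  | one => simpa using hr
  | mul a b ha hb iha ihb =>
    rw [mul_assoc]
    exact iha (by rw [← Subgroup.mem_toSubmonoid, Subgroup.closure_toSubmonoid_of_finite]; exact ha)
      (ihb (by rw [← Subgroup.mem_toSubmonoid, Subgroup.closure_toSubmonoid_of_finite]; exact hb) hr)

namespace Valid

variable (V : Valid L P π)
include V

omit [Finite Q] in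
theorem elU {w : Nat} (h : okU L w = true) :
    Cover.okP P.toTab w = true ∧ P.el w ∈ grpU L P := by
  refine ⟨?_, valW_mem P.q L.nU (grpU L P) (fun g hg => Subgroup.subset_closure ⟨g, hg, rfl⟩) _ _ h⟩
  unfold Cover.okP
  unfold okU at h
  revert h
  generalize wLen w = n, wBody w = u
  induction n generalizing u with
  | zero => exact fun h => h
  | succ n ih =>
    intro h
    rw [lettersBelow_succ, Bool.and_eq_true] at h ⊢
    exact ⟨Nat.ble_eq.mpr (lt_of_lt_of_le (Nat.ble_eq.mp h.1) V.hnU), ih _ h.2⟩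

omit [Finite Q] in
theorem elS {m w : Nat} (hm : m < L.n) (h : okS L m w = true) :
    P.elI (L.stabW m) w ∈ L.stab P m ∧
      ∀ a, appI P.toTab (L.stabW m) (P.tup a) w = P.tup (a * P.elI (L.stabW m) w) :=
  ⟨valW_mem _ (L.nStab m) (L.stab P m) (fun i hi => Subgroup.subset_closure ⟨i, hi, rfl⟩) _ _ h,
    fun a => P.appI_tup _ (fun i hi => V.stab_ok m i hm hi) w h a⟩

omit [Finite Q] in
theorem loc_spec {m c : Nat} (hm : m < L.n) (hc : c < L.nP) :
    L.lJ m c < L.nR ∧ L.rM (L.lJ m c) = m ∧ P.el (L.lU m c) ∈ grpU L P ∧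
    P.elI (L.stabW m) (L.lS m c) ∈ L.stab P m ∧
    P.el (L.ep c) = P.elI (L.stabW m) (L.lS m c) * P.el (L.rW (L.lJ m c)) * P.el (L.lU m c) := by
  have h := V.loc_ok m c hm hc
  simp only [checkLoc, force_eq, gate_eq, Bool.and_eq_true] at h
  obtain ⟨hj, hmj, hs, hu, he⟩ := h
  obtain ⟨hup, huU⟩ := V.elU hu
  obtain ⟨hsS, hsa⟩ := V.elS hm hs
  refine ⟨Nat.ble_eq.mp hj, Nat.eq_of_beq_eq_true hmj, huU, hsS, P.inj ?_⟩
  have hr := V.root_ok _ (Nat.ble_eq.mp hj)
  simp only [checkRoot, force_eq, gate_eq, Bool.and_eq_true] at hr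
  have he := Nat.eq_of_beq_eq_true he
  rw [appS, tup_base, Cover.appP_tup (V.ep_ok c hc), one_mul, hsa, one_mul, Cover.appP_tup hr.2.2.1,
    Cover.appP_tup hup] at he
  exact he

omit [Finite Q] in
theorem root_spec {j : Nat} (hj : j < L.nR) :
    L.rM j < L.n ∧ L.rC j < L.nP ∧ L.lJ (L.rM j) (L.rC j) = j ∧ Cover.okP P.toTab (L.rW j) = true ∧
    P.el (L.ep (L.rC j)) = P.el (L.rW j) * P.el (L.lU (L.rM j) (L.rC j)) := by
  have h := V.root_ok j hj
  simp only [checkRoot, force_eq, gate_eq, Bool.and_eq_true] at h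
  obtain ⟨hm, hc, hr, hJ, hS⟩ := h
  have hJ := Nat.eq_of_beq_eq_true hJ
  obtain ⟨-, -, -, -, he⟩ := V.loc_spec (Nat.ble_eq.mp hm) (Nat.ble_eq.mp hc)
  rw [hJ, Nat.eq_of_beq_eq_true hS] at he
  refine ⟨Nat.ble_eq.mp hm, Nat.ble_eq.mp hc, hJ, hr, ?_⟩
  rw [he]
  simp [QModel.elI, val, valW]

/-- The left cosets cover the model. -/
theorem left_cover (q : Q) : ∃ c, c < L.nP ∧ ∃ u ∈ grpU L P, q = P.el (L.ep c) * u := by
  let R : Set Q := {y | ∃ c, c < L.nP ∧ ∃ u ∈ grpU L P, y = P.el (L.ep c) * u}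
  have h1 : (1 : Q) ∈ R := ⟨0, V.ep_zero.1, 1, one_mem _, by
    simp [V.ep_zero.2, QModel.el, val, valW]⟩
  have hq : q ∈ Subgroup.closure {x | ∃ g, g < P.nL ∧ x = P.q g} := by rw [V.gens]; trivial
  have := mem_closure_mul (R := R) ?_ hq h1
  · simpa [R] using this
  rintro _ ⟨g, hg, rfl⟩ _ ⟨c, hc, u, hu, rfl⟩
  have h := V.left_ok g c hg hc
  simp only [checkLeft, force_eq, gate_eq, Bool.and_eq_true] at h
  obtain ⟨hd, hv, he⟩ := h
  obtain ⟨hvp, hvU⟩ := V.elU hv
  have hd := Nat.ble_eq.mp hd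
  have he := Nat.eq_of_beq_eq_true he
  rw [tup_base, ← P.step _ g hg, one_mul, Cover.appP_tup (V.ep_ok c hc),
    Cover.appP_tup (V.ep_ok _ hd), one_mul, Cover.appP_tup hvp] at he
  exact ⟨_, hd, _, mul_mem hvU hu, by rw [← mul_assoc, P.inj he, mul_assoc]⟩

/-- Every element is a stabiliser element, a root and an element of `U`. -/
theorem decomp {m : Nat} (hm : m < L.n) (a : Q) :
    ∃ j u, j < L.nR ∧ L.rM j = m ∧ u ∈ grpU L P ∧ a * (P.el (L.rW j) * u)⁻¹ ∈ L.stab P m := by
  obtain ⟨c, hc, u, hu, rfl⟩ := V.left_cover a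
  obtain ⟨hj, hmj, hl, hs, he⟩ := V.loc_spec hm hc
  refine ⟨_, P.el (L.lU m c) * u, hj, hmj, mul_mem hl hu, ?_⟩
  have : P.el (L.ep c) * u * (P.el (L.rW (L.lJ m c)) * (P.el (L.lU m c) * u))⁻¹ =
      P.elI (L.stabW m) (L.lS m c) := by rw [he]; group
  rw [this]
  exact hs

omit [Finite Q] in
theorem block_word : ∀ n w p, lettersBelow L.nU n w = true → L.inB p = true →
    L.inB (foldW P.act n w p) = true
  | 0, _, _, _, hp => hp
  | n + 1, w, p, hl, hp => by
    rw [lettersBelow_succ, Bool.and_eq_true] at hl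
    rw [foldW_succ]
    exact block_word n _ _ hl.2 (V.block _ (Nat.ble_eq.mp hl.1) _ hp)

/-- `U` keeps the block. -/
theorem block_mem (a : Q) {u : Q} (hu : u ∈ grpU L P) (h : L.inB (P.pt0 a) = true) :
    L.inB (P.pt0 (a * u)) = true := by
  have hm : u ∈ Submonoid.closure {x | ∃ g, g < L.nU ∧ x = P.q g} := by
    rwa [grpU, ← Subgroup.mem_toSubmonoid, Subgroup.closure_toSubmonoid_of_finite] at hu
  induction hm using Submonoid.closure_induction generalizing a with
  | mem x hx =>
    obtain ⟨g, hg, rfl⟩ := hx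
    rw [QModel.pt0, P.step _ _ (lt_of_lt_of_le hg V.hnU), QModel.fld_mapTup _ (P.act_lt _) _ _ _ V.hk]
    exact V.block g hg _ h
  | one => rwa [mul_one]
  | mul x y hx hy ihx ihy =>
    have hx' : x ∈ grpU L P := by
      rw [grpU, ← Subgroup.mem_toSubmonoid, Subgroup.closure_toSubmonoid_of_finite]; exact hx
    have hy' : y ∈ grpU L P := by
      rw [grpU, ← Subgroup.mem_toSubmonoid, Subgroup.closure_toSubmonoid_of_finite]; exact hy
    rw [← mul_assoc]
    exact ihy _ hy' (ihx a hx' h)

/-- The coset of a root is not any other listed coset. -/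
theorem sep {c j : Nat} (hc : c < L.nP) (hj : j < L.nR) {u : Q} (hu : u ∈ grpU L P)
    (h : P.el (L.ep c) * u = P.el (L.rW j)) : c = L.rC j := by
  have hs := V.sep_ok c hc
  simp only [checkSep, force_eq, gate_eq, Bool.and_eq_true] at hs
  obtain ⟨hw, hin, hall⟩ := hs
  rw [tup_base, Cover.appP_tup hw, one_mul, Cover.appP_tup (V.ep_ok c hc)] at hin
  have h2 := allFrom_all hall hj
  by_contra hne
  have hb : Nat.beq (L.rC j) c = false := by
    cases hb : Nat.beq (L.rC j) c
    · rfl
    · exact absurd (Nat.eq_of_beq_eq_true hb).symm hne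
  rw [hb, tup_base, Cover.appP_tup hw, one_mul, Cover.appP_tup (V.root_spec hj).2.2.2.1] at h2
  have h3 := V.block_mem (P.el (L.hw c) * P.el (L.ep c)) hu hin
  rw [mul_assoc, h] at h3
  rw [QModel.pt0] at h3
  rw [h3] at h2
  simp at h2

omit [Finite Q] in
theorem elW_mem {j b : Nat} (hj : j < L.nR) (hb : b < L.nW j) : P.el (L.wW j b) ∈ grpU L P := by
  have h := V.w_ok j b hj hb
  simp only [checkW, force_eq, gate_eq, Bool.and_eq_true] at h
  exact (V.elU h.1).2

omit [Finite Q] in
theorem grpW_le {j : Nat} (hj : j < L.nR) : grpW L P j ≤ grpU L P := by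
  rw [grpW, Subgroup.closure_le]
  rintro _ ⟨b, hb, rfl⟩
  exact V.elW_mem hj hb

omit [Finite Q] in
theorem grpW_stab {j : Nat} (hj : j < L.nR) {w : Q} (hw : w ∈ grpW L P j) :
    P.el (L.rW j) * w * (P.el (L.rW j))⁻¹ ∈ L.stab P (L.rM j) := by
  obtain ⟨hm, -, -, hr, -⟩ := V.root_spec hj
  have : grpW L P j ≤ (L.stab P (L.rM j)).comap (MulAut.conj (P.el (L.rW j))).toMonoidHom := by
    rw [grpW, Subgroup.closure_le]
    rintro _ ⟨b, hb, rfl⟩
    have h := V.w_ok j b hj hb
    simp only [checkW, force_eq, gate_eq, Bool.and_eq_true] at h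
    obtain ⟨hwU, hs, he⟩ := h
    obtain ⟨hsS, hsa⟩ := V.elS hm hs
    have he := Nat.eq_of_beq_eq_true he
    rw [appS, tup_base, Cover.appP_tup hr, Cover.appP_tup (V.elU hwU).1, hsa, one_mul, one_mul,
      Cover.appP_tup hr] at he
    show P.el (L.rW j) * P.el (L.wW j b) * (P.el (L.rW j))⁻¹ ∈ L.stab P (L.rM j)
    rw [P.inj he, mul_inv_cancel_right]
    exact hsS
  exact this hw

/-- The orbit of a root under its stabiliser. -/
theorem stab_root {j : Nat} (hj : j < L.nR) {s : Q} (hs : s ∈ L.stab P (L.rM j)) :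
    ∃ c, c < L.nP ∧ L.lJ (L.rM j) c = j ∧ ∃ v ∈ grpU L P, s * P.el (L.rW j) = P.el (L.ep c) * v ∧
      P.el (L.lU (L.rM j) c) * v ∈ grpW L P j := by
  obtain ⟨hm, hc0, hJ0, hr, he0⟩ := V.root_spec hj
  set m := L.rM j
  let R : Set Q := {y | ∃ c, c < L.nP ∧ L.lJ m c = j ∧ ∃ v ∈ grpU L P, y = P.el (L.ep c) * v ∧
      P.el (L.lU m c) * v ∈ grpW L P j}
  have h1 : P.el (L.rW j) ∈ R := ⟨_, hc0, hJ0, (P.el (L.lU m (L.rC j)))⁻¹,
    inv_mem (V.loc_spec hm hc0).2.2.1, by rw [he0, mul_inv_cancel_right], by simp⟩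
  refine mem_closure_mul (R := R) ?_ hs h1
  rintro _ ⟨a, ha, rfl⟩ _ ⟨c, hc, hJ, v, hv, rfl, hw⟩
  have h := V.sch_ok m c a hm hc ha
  simp only [checkSch, force_eq, gate_eq, Bool.and_eq_true, hJ] at h
  obtain ⟨hd, hJd, hvv, ho, e1, e2⟩ := h
  have hd := Nat.ble_eq.mp hd
  obtain ⟨hvp, hvU⟩ := V.elU hvv
  have hlok : ∀ d, d < L.nP → Cover.okP P.toTab (L.lU m d) = true := fun d hd => by
    have h := V.loc_ok m d hm hd
    simp only [checkLoc, force_eq, gate_eq, Bool.and_eq_true] at h
    exact (V.elU h.2.2.2.1).1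
  have e1 := Nat.eq_of_beq_eq_true e1
  rw [tup_base, Cover.appP_tup (V.stab_ok m a hm ha), one_mul, Cover.appP_tup (V.ep_ok c hc),
    Cover.appP_tup (V.ep_ok _ hd), one_mul, Cover.appP_tup hvp] at e1
  have hwok : ∀ b, b < L.nW j → Cover.okP P.toTab (L.wW j b) = true := fun b hb => by
    have h := V.w_ok j b hj hb
    simp only [checkW, force_eq, gate_eq, Bool.and_eq_true] at h
    exact (V.elU h.1).1
  have e2 := Nat.eq_of_beq_eq_true e2
  rw [tup_base, Cover.appP_tup (hlok _ hd), one_mul, Cover.appP_tup hvp, P.appI_tup _ hwok _ ho, one_mul,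
    Cover.appP_tup (hlok c hc)] at e2
  refine ⟨_, hd, Nat.eq_of_beq_eq_true hJd, P.el (L.sgV m c a) * v, mul_mem hvU hv, ?_, ?_⟩
  · rw [← mul_assoc, P.inj e1, mul_assoc]
  · rw [← mul_assoc, P.inj e2, mul_assoc]
    exact mul_mem (valW_mem _ (L.nW j) (grpW L P j) (fun b hb => Subgroup.subset_closure ⟨b, hb, rfl⟩) _ _ ho) hw

/-- Two decompositions differ by a generator at the root. -/
theorem decomp_unique {j j' : Nat} (hj : j < L.nR) (hj' : j' < L.nR) (hm : L.rM j = L.rM j') {u u' : Q}
    (hu : u ∈ grpU L P) (hu' : u' ∈ grpU L P)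
    (h : P.el (L.rW j') * u' * (P.el (L.rW j) * u)⁻¹ ∈ L.stab P (L.rM j)) :
    j = j' ∧ u' * u⁻¹ ∈ grpW L P j := by
  obtain ⟨c, hc, hJ, v, hv, he, hw⟩ := V.stab_root hj h
  have e1 : P.el (L.ep c) * (v * u * u'⁻¹) = P.el (L.rW j') := by
    have : P.el (L.rW j') * u' * u⁻¹ = P.el (L.ep c) * v := by rw [← he]; group
    calc P.el (L.ep c) * (v * u * u'⁻¹) = P.el (L.ep c) * v * (u * u'⁻¹) := by group
      _ = P.el (L.rW j') := by rw [← this]; group
  have hcc : c = L.rC j' := V.sep hc hj' (mul_mem (mul_mem hv hu) (inv_mem hu')) e1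
  obtain ⟨-, -, hJ', -, he'⟩ := V.root_spec hj'
  have hjj : j = j' := by rw [← hJ, hcc, hm, hJ']
  subst hjj
  refine ⟨rfl, ?_⟩
  rw [hcc, he', mul_assoc, mul_eq_left] at e1
  rw [hcc] at hw
  have : u' * u⁻¹ = P.el (L.lU (L.rM j) (L.rC j)) * v := by
    calc u' * u⁻¹ = P.el (L.lU (L.rM j) (L.rC j)) * (v * u * u'⁻¹) * u' * u⁻¹ := by
          rw [e1]; group
      _ = _ := by group
  rw [this]
  exact hw

omit [Finite Q] in
theorem pi_word : ∀ n w, lettersBelow L.nU n w = true → ∀ t, t < L.nT →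
    L.piN n w t = π (valW P.q n w) t
  | 0, w, _, t, _ => (V.pi_one t).symm
  | n + 1, w, hl, t, ht => by
    rw [lettersBelow_succ, Bool.and_eq_true] at hl
    have hg := Nat.ble_eq.mp hl.1
    have hmem : valW P.q n (w / 256) ∈ grpU L P :=
      valW_mem P.q L.nU (grpU L P) (fun g hg => Subgroup.subset_closure ⟨g, hg, rfl⟩) _ _ hl.2
    show force (L.piN n (Nat.div w 256) t) (fun s => L.piLet (Nat.mod w 256) s) = _
    rw [force_eq, show Nat.div w 256 = w / 256 from rfl, show Nat.mod w 256 = w % 256 from rfl,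
      pi_word n _ hl.2 t ht, valW, V.pi_mul _ _ (Subgroup.subset_closure ⟨_, hg, rfl⟩) hmem t ht]
    exact V.pi_let _ hg _ (V.pi_lt _ hmem t ht)

omit [Finite Q] in
theorem piW_eq {w : Nat} (h : okU L w = true) {t : Nat} (ht : t < L.nT) : L.piW w t = π (P.el w) t :=
  V.pi_word _ _ h t ht

omit [Finite Q] in
theorem img_lt {j t : Nat} (hj : j < L.nR) (ht : t < L.nT) :
    L.iM j t < L.n ∧ Cover.okP P.toTab (L.iW j t) = true := by
  have h := V.img_ok j t hj ht
  simp only [checkImg, gate_eq, Bool.and_eq_true] at h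
  exact ⟨Nat.ble_eq.mp h.1, h.2⟩

end Valid

variable (L P π) in
/-- The image of the point of root `j` moved by `u` under extra letter `t`. -/
noncomputable def val0 (hn : ∀ j t, j < L.nR → t < L.nT → L.iM j t < L.n) {j : Nat} (hj : j < L.nR)
    (u : Q) {t : Nat} (ht : π u t < L.nT) : Pt L P :=
  pt L P (hn j _ hj ht) (P.el (L.iW j (π u t)) * u)

namespace Valid

variable (V : Valid L P π)
include V

/-- The generators at a root fix its images. -/
theorem compat {j : Nat} (hj : j < L.nR) {w : Q} (hw : w ∈ grpW L P j) :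
    ∀ t, t < L.nT → L.iM j (π w t) = L.iM j t ∧
      P.el (L.iW j (π w t)) * w * (P.el (L.iW j t))⁻¹ ∈ L.stab P (L.iM j t) := by
  have hm : w ∈ Submonoid.closure {x | ∃ b, b < L.nW j ∧ x = P.el (L.wW j b)} := by
    rwa [grpW, ← Subgroup.mem_toSubmonoid, Subgroup.closure_toSubmonoid_of_finite] at hw
  induction hm using Submonoid.closure_induction with
  | mem x hx =>
    obtain ⟨b, hb, rfl⟩ := hx
    intro t ht
    have h := V.compat_ok j b t hj hb ht
    have hwok := V.w_ok j b hj hb
    simp only [checkW, force_eq, gate_eq, Bool.and_eq_true] at hwok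
    simp only [checkCompat, force_eq, gate_eq, Bool.and_eq_true, V.piW_eq hwok.1 ht] at h
    obtain ⟨hm, hs, he⟩ := h
    have hm := Nat.eq_of_beq_eq_true hm
    obtain ⟨hmt, hok⟩ := V.img_lt hj ht
    have hok' := (V.img_lt hj (V.pi_lt _ (V.elW_mem hj hb) t ht)).2
    obtain ⟨hsS, hsa⟩ := V.elS hmt hs
    have he := Nat.eq_of_beq_eq_true he
    rw [appS, tup_base, Cover.appP_tup hok', one_mul, Cover.appP_tup (V.elU hwok.1).1, hsa, one_mul,
      Cover.appP_tup hok] at he
    refine ⟨hm, ?_⟩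
    rw [P.inj he, mul_inv_cancel_right]
    exact hsS
  | one => intro t ht; simp [V.pi_one]
  | mul a b ha hb iha ihb =>
    have ha' : a ∈ grpW L P j := by
      rw [grpW, ← Subgroup.mem_toSubmonoid, Subgroup.closure_toSubmonoid_of_finite]; exact ha
    have hb' : b ∈ grpW L P j := by
      rw [grpW, ← Subgroup.mem_toSubmonoid, Subgroup.closure_toSubmonoid_of_finite]; exact hb
    intro t ht
    have hbU := V.grpW_le hj hb'
    have hs := V.pi_lt _ hbU t ht
    obtain ⟨a1, a2⟩ := iha ha' _ hs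
    obtain ⟨b1, b2⟩ := ihb hb' t ht
    rw [V.pi_mul _ _ (V.grpW_le hj ha') hbU t ht]
    refine ⟨a1.trans b1, ?_⟩
    rw [b1] at a2
    have := mul_mem a2 b2
    simpa [mul_assoc] using this

/-- The images do not depend on the decomposition. -/
theorem val0_congr {j j' : Nat} (hj : j < L.nR) (hj' : j' < L.nR) (hm : L.rM j = L.rM j') {u u' : Q}
    (hu : u ∈ grpU L P) (hu' : u' ∈ grpU L P)
    (h : P.el (L.rW j') * u' * (P.el (L.rW j) * u)⁻¹ ∈ L.stab P (L.rM j)) {t : Nat} (ht : t < L.nT) :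
    val0 L P π (fun j t hj ht => (V.img_lt hj ht).1) hj u (V.pi_lt u hu t ht) =
      val0 L P π (fun j t hj ht => (V.img_lt hj ht).1) hj' u' (V.pi_lt u' hu' t ht) := by
  obtain ⟨rfl, hw⟩ := V.decomp_unique hj hj' hm hu hu' h
  have hs := V.pi_lt u hu t ht
  obtain ⟨h1, h2⟩ := V.compat hj hw _ hs
  have hpi : π u' t = π (u' * u⁻¹) (π u t) := by
    rw [← V.pi_mul _ _ (mul_mem hu' (inv_mem hu)) hu t ht, inv_mul_cancel_right]
  rw [val0, val0, pt_congr L P (show L.iM j (π u' t) = L.iM j (π u t) by rw [hpi, h1])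
    (V.img_lt hj (V.pi_lt u' hu' t ht)).1 (V.img_lt hj hs).1, pt_eq]
  rw [← hpi] at h2
  simpa [mul_assoc] using h2

theorem exists_act : ∃ F : Nat → Pt L P → Pt L P,
    ∀ (j : Nat) (hj : j < L.nR) (hm : L.rM j < L.n) (u : Q) (hu : u ∈ grpU L P) (t : Nat) (ht : t < L.nT),
      F t (pt L P hm (P.el (L.rW j) * u)) =
        val0 L P π (fun j t hj ht => (V.img_lt hj ht).1) hj u (V.pi_lt u hu t ht) := by
  classical
  have hd : ∀ x : Pt L P, ∃ j u, ∃ (hj : j < L.nR), ∃ (_ : u ∈ grpU L P),
      x = pt L P (V.root_spec hj).1 (P.el (L.rW j) * u) := by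
    intro x
    obtain ⟨m, hm, a, rfl⟩ := exists_pt L P x
    obtain ⟨j, u, hj, rfl, hu, hs⟩ := V.decomp hm a
    refine ⟨j, u, hj, hu, ?_⟩
    rw [pt_eq, ← inv_inv (P.el (L.rW j) * u * a⁻¹), mul_inv_rev, inv_inv]
    exact inv_mem hs
  choose J Uf hJ hUf hx using hd
  refine ⟨fun t x => if ht : t < L.nT then
      val0 L P π (fun j t hj ht => (V.img_lt hj ht).1) (hJ x) (Uf x) (V.pi_lt _ (hUf x) t ht) else x,
    fun j hj hm u hu t ht => ?_⟩
  simp only [dif_pos ht]
  have e := hx (pt L P hm (P.el (L.rW j) * u))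
  obtain ⟨hm1, he⟩ := pt_inj (L := L) (P := P) e
  exact (V.val0_congr hj (hJ _) hm1 hu (hUf _) he ht).symm

end Valid

end Low

end Cfsg.Agent.DCoset
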