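import Mathlib
import Cfsg.Agent.CosetCert.Pack

/-!
Orbit-level double coset certificates: tuples of base images and packed words.

An element of a small permutation group is the tuple of the images of its base, 16 bits per
point in one number.  A word is a number with 8 bits per letter, first letter lowest, kept
together with its length.
-/

namespace Cfsg.Agent.DCoset

open Cfsg.Agent.CosetCert

/-- Apply a map of points to each of the `k` fields of a tuple. -/
noncomputable def mapTup (f : Nat → Nat) : Nat → Nat → Nat :=
  fun k => Nat.rec (fun _ => 0)
    (fun _ ih v => force (ih (Nat.div v 65536)) fun r =>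
      force (f (Nat.mod v 65536)) fun a => Nat.add a (Nat.mul 65536 r)) k

/-- The number of the letters of a packed word with its length in the low 16 bits. -/
noncomputable def wLen (w : Nat) : Nat := Nat.mod w 65536

/-- The letters of a packed word. -/
noncomputable def wBody (w : Nat) : Nat := Nat.div w 65536

/-- Fold a function over `n` packed letters. -/
noncomputable def foldW (f : Nat → Nat → Nat) : Nat → Nat → Nat → Nat :=
  fun n => Nat.rec (fun _ v => v)
    (fun _ ih w v => force (Nat.mod w 256) fun x => force (f x v) fun v' => ih (Nat.div w 256) v') n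

/-- All `n` packed letters are below `b`. -/
noncomputable def lettersBelow (b : Nat) : Nat → Nat → Bool :=
  fun n => Nat.rec (fun _ => true)
    (fun _ ih w => gate (Nat.blt (Nat.mod w 256) b) (ih (Nat.div w 256))) n

/-- The value of `n` packed letters in a monoid. -/
def valW {M : Type*} [Monoid M] (lv : Nat → M) : Nat → Nat → M
  | 0, _ => 1
  | n + 1, w => lv (w % 256) * valW lv n (w / 256)

/-- The value of a packed word. -/
def val {M : Type*} [Monoid M] (lv : Nat → M) (w : Nat) : M := valW lv (w % 65536) (w / 65536)

theorem mapTup_succ (f : Nat → Nat) (k v : Nat) :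
    mapTup f (k + 1) v = f (v % 65536) + 65536 * mapTup f k (v / 65536) := by
  simp only [mapTup, force_eq]
  rfl

theorem foldW_succ (f : Nat → Nat → Nat) (n w v : Nat) :
    foldW f (n + 1) w v = foldW f n (w / 256) (f (w % 256) v) := by
  simp only [foldW, force_eq]
  rfl

theorem lettersBelow_succ (b n w : Nat) :
    lettersBelow b (n + 1) w = (Nat.blt (w % 256) b && lettersBelow b n (w / 256)) := by
  show gate (Nat.blt (Nat.mod w 256) b) _ = _
  rw [gate_eq]
  rfl

theorem valW_map {M N : Type*} [Monoid M] [Monoid N] (f : M →* N) (lv : Nat → M) :
    ∀ n w, f (valW lv n w) = valW (fun x => f (lv x)) n w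
  | 0, _ => map_one f
  | n + 1, w => by rw [valW, valW, map_mul, valW_map f lv n]

theorem valW_mem {G : Type*} [Group G] (lv : Nat → G) (b : Nat) (S : Subgroup G)
    (h : ∀ x, x < b → lv x ∈ S) : ∀ n w, lettersBelow b n w = true → valW lv n w ∈ S
  | 0, _, _ => S.one_mem
  | n + 1, w, hl => by
    rw [lettersBelow_succ, Bool.and_eq_true] at hl
    exact S.mul_mem (h _ (Nat.ble_eq.mp hl.1)) (valW_mem lv b S h n _ hl.2)

/-- The data of a permutation model that the checks evaluate. -/
structure Tab where
  /-- number of base points -/
  k : Nat
  /-- number of letters -/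
  nL : Nat
  /-- letter, point ↦ point -/
  act : Nat → Nat → Nat
  /-- the tuple of the identity -/
  base : Nat

namespace Tab

/-- A tuple times a packed word. -/
noncomputable def app (M : Tab) (v w : Nat) : Nat :=
  force v fun v => foldW (fun g v => mapTup (M.act g) M.k v) (wLen w) (wBody w) v

/-- The word is spelled in the letters of the model. -/
noncomputable def okWord (M : Tab) (w : Nat) : Bool := lettersBelow M.nL (wLen w) (wBody w)

end Tab

end Cfsg.Agent.DCoset
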