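import Cfsg.Agent.DCoset.Pts

/-!
A permutation model of a subgroup of a group: tuples stand for elements, letters act on tuples
as they multiply elements on the right, and no tuple stands for two elements.
-/

namespace Cfsg.Agent.DCoset

open Cfsg.Agent.CosetCert

/-- Letters with their permutations of points and their values in a group. -/
structure Model (G : Type*) [Group G] extends Tab where
  /-- value of a letter -/
  lv : Nat → G
  /-- `R v x`: the tuple `v` stands for `x` -/
  R : Nat → G → Prop
  one : R base 1
  step : ∀ v x g, g < nL → R v x → R (mapTup (act g) k v) (x * lv g)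
  uniq : ∀ v x y, R v x → R v y → x = y

namespace Model

variable {G : Type*} [Group G] (M : Model G)

theorem app_eq (v w : Nat) :
    M.toTab.app v w = foldW (fun g v => mapTup (M.act g) M.k v) (w % 65536) (w / 65536) v := by
  rw [Tab.app, force_eq]; rfl

theorem step_foldW : ∀ n w v x, lettersBelow M.nL n w = true → M.R v x →
    M.R (foldW (fun g v => mapTup (M.act g) M.k v) n w v) (x * valW M.lv n w)
  | 0, _, _, _, _, hR => by simpa [valW, foldW] using hR
  | n + 1, w, v, x, hl, hR => by
    rw [lettersBelow_succ, Bool.and_eq_true] at hl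
    rw [foldW_succ, valW, ← mul_assoc]
    exact step_foldW n _ _ _ hl.2 (M.step v x _ (Nat.ble_eq.mp hl.1) hR)

theorem step_word {v : Nat} {x : G} (w : Nat) (hw : M.toTab.okWord w = true) (hR : M.R v x) :
    M.R (M.toTab.app v w) (x * val M.lv w) := by
  rw [app_eq]
  exact M.step_foldW _ _ _ _ hw hR

theorem val_mem (S : Subgroup G) (h : ∀ g, g < M.nL → M.lv g ∈ S) (w : Nat)
    (hw : M.toTab.okWord w = true) : val M.lv w ∈ S :=
  valW_mem M.lv M.nL S h _ _ hw

/-- A model from a group acting on points, mapped into `G`, whose elements are told apart by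
the images of the base. -/
def ofHom {Q : Type*} [Group Q] (ι : Q →* G) (k nL : Nat) (act : Nat → Nat → Nat) (base : Nat)
    (q : Nat → Q) (tup : Q → Nat) (hone : tup 1 = base)
    (hstep : ∀ a g, g < nL → tup (a * q g) = mapTup (act g) k (tup a))
    (hinj : Function.Injective tup) : Model G where
  k := k
  nL := nL
  act := act
  base := base
  lv g := ι (q g)
  R v x := ∃ a, tup a = v ∧ ι a = x
  one := ⟨1, hone, map_one ι⟩
  step := by
    rintro v x g hg ⟨a, rfl, rfl⟩
    exact ⟨a * q g, hstep a g hg, map_mul ι a (q g)⟩
  uniq := by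
    rintro v x y ⟨a, rfl, rfl⟩ ⟨b, hb, rfl⟩
    rw [hinj hb]

end Model

end Cfsg.Agent.DCoset
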