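import Cfsg.Agent.DCoset.Cover

/-!
When the bound of a cover is attained, every node is an orbit of the listed length, and the orbits are disjoint.
-/

namespace Cfsg.Agent.DCoset.Cover

open Cfsg.Agent.CosetCert

variable {C : Cover} {D : Steps} {L : Rules} {Q : Type*} [Group Q] {P : QModel Q}

/-- The suborbits of a cover whose bound is attained. -/
theorem suborbits {G : Type*} [Group G] [Finite Q] (ι : Q →* G) (T : Nat → G) {NQ : Nat}
    (hQ : Nat.card Q ≤ NQ) (hgenQ : Subgroup.closure {x | ∃ g, g < P.nL ∧ x = P.q g} = ⊤)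
    (hgenG : Subgroup.closure (Set.range ι ∪ {x | ∃ t, t < L.nT ∧ x = T t}) = ⊤)
    (hL : L.Sound (P.toModel ι) T) (hV : C.Valid D L P.toTab NQ)
    (hF : ∀ s, s < D.len → D.Holds L (P.toModel ι) ι.range T s)
    (htot : ((List.range C.nLive).map C.idx).sum ≤ ι.range.index) :
    ∃ (pt : Fin C.nLive → G ⧸ ι.range) (label : G ⧸ ι.range → Fin C.nLive),
      (∀ q z, label (ι q • z) = label z) ∧ (∀ z, ∃ q : Q, z = ι q • pt (label z)) ∧
      (∀ m, Nat.card {z // label z = m} = C.idx m) ∧
      (∀ m, Nat.card ↥((MulAction.stabilizer G (pt m)).comap ι) * C.idx m = Nat.card Q) ∧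
      (∀ m : Fin C.nLive, (m : Nat) = 0 → pt m = QuotientGroup.mk 1) := by
  classical
  have pow_inv : ∀ (S : Submonoid Q) {x : Q}, x ∈ S → x⁻¹ ∈ S := fun S x hx => by
    obtain ⟨n, hn⟩ : ∃ n : ℕ, x ^ n = x⁻¹ := ⟨orderOf x - 1, eq_inv_of_mul_eq_one_left (by
      rw [← pow_succ, Nat.sub_add_cancel (orderOf_pos x), pow_orderOf_eq_one])⟩
    exact hn ▸ S.pow_mem hx n
  set U := Submonoid.closure {x | ∃ l, l < C.nU ∧ x = P.el (C.uW l)} with hUdef
  have hU : ∀ l, l < C.nU → okP P.toTab (C.uW l) = true := fun l hl => by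
    have h := hV.u_ok l hl
    simp only [checkU, force_eq, gate_eq, Bool.and_eq_true] at h
    exact h.1
  -- the transversal
  let S : Set Q := {y | ∃ c, c < C.nP ∧ ∃ u ∈ U, y = u * P.el (C.tr c)}
  have hTr : ∀ c, c < C.nP → okP P.toTab (C.tr c) = true := fun c hc => by
    have h := hV.tr_ok c hc
    simp only [checkTr, force_eq, gate_eq, Bool.and_eq_true] at h
    exact h.1
  have hS1 : (1 : Q) ∈ S := by
    refine ⟨0, hV.nP_pos, 1, U.one_mem, ?_⟩
    have h := hV.tr_ok 0 hV.nP_pos
    simp only [checkTr, force_eq, gate_eq, Bool.and_eq_true, Nat.beq_refl] at h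
    have h2 := Nat.eq_of_beq_eq_true h.2.1
    rw [appP_base (hTr 0 hV.nP_pos), ← P.one] at h2
    rw [P.inj h2, one_mul]
  have hSg : ∀ g, g < P.nL → ∀ y ∈ S, y * P.q g ∈ S := by
    rintro g hg _ ⟨c, hc, u, hu, rfl⟩
    have h := hV.tr_ok c hc
    simp only [checkTr, force_eq, gate_eq, Bool.and_eq_true] at h
    have h2 := (allFrom_iff _ _ _).1 h.2.2 g (Nat.zero_le _) (by omega)
    simp only [force_eq, gate_eq, Bool.and_eq_true] at h2
    obtain ⟨hd, hu', he⟩ := h2
    have he := Nat.eq_of_beq_eq_true he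
    rw [appP_base (hTr c hc), ← P.step _ _ hg] at he
    simp only [appU, force_eq, ← P.one] at he
    obtain ⟨v, hv, hev⟩ := appU_tup hU _ _ 1 hu'
    rw [show wLen (C.schU c g) = C.schU c g % 65536 from rfl] at hev
    simp only [one_mul] at hev
    change _ = appP P.toTab (foldW _ (wLen (C.schU c g)) (wBody (C.schU c g)) (P.tup 1)) _ at he
    rw [show wLen (C.schU c g) = C.schU c g % 65536 from rfl, hev,
      appP_tup (hTr _ (Nat.ble_eq.mp hd))] at he
    refine ⟨C.schD c g, Nat.ble_eq.mp hd, u * v, U.mul_mem hu hv, ?_⟩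
    rw [mul_assoc u, P.inj he, mul_assoc u]
  have hSall : ∀ y : Q, y ∈ S := by
    let R : Submonoid Q :=
      { carrier := {y | ∀ a ∈ S, a * y ∈ S}
        one_mem' := fun a ha => by simpa using ha
        mul_mem' := fun {x y} hx hy a ha => by rw [← mul_assoc]; exact hy _ (hx _ ha) }
    intro y
    have hy : y ∈ R := by
      have : y ∈ (⊤ : Subgroup Q) := trivial
      rw [← hgenQ] at this
      refine Subgroup.closure_induction (p := fun y _ => y ∈ R) ?_ R.one_mem
        (fun a b _ _ => R.mul_mem) (fun a _ ha => pow_inv R ha) this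
      rintro x ⟨g, hg, rfl⟩
      exact hSg g hg
    simpa using hy 1 hS1
  -- facts
  let node : Nat → G := fun m => Steps.rep D (P.toModel ι) T (C.live m)
  let Cl : Set G := {g | ∃ m, m < C.nLive ∧ ∃ a : Q, g * (node m * ι a)⁻¹ ∈ ι.range}
  let Good : Nat → Q → Prop := fun m a => ∀ t, t < L.nT → node m * ι a * T t ∈ Cl
  have hstab : ∀ m, m < C.nLive → ∀ b, b < C.nStab m →
      node m * ι (P.el (C.stabW m b)) * (node m)⁻¹ ∈ ι.range := by
    intro m hm b hb
    have h := hV.stab_ok m b hm hb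
    simp only [checkStab, force_eq, gate_eq, Bool.and_eq_true] at h
    obtain ⟨hw, hs, eI, eJ, eT, eH, eK⟩ := h
    obtain ⟨-, x, y, hx, hy, hmem⟩ := hF _ (Nat.ble_eq.mp hs)
    obtain ⟨a, ha, rfl⟩ := hx
    obtain ⟨a', ha', rfl⟩ := hy
    rw [Nat.eq_of_beq_eq_true eH, appP_base hw] at ha
    rw [Nat.eq_of_beq_eq_true eK, ← P.one] at ha'
    rw [Nat.eq_of_beq_eq_true eI, Nat.eq_of_beq_eq_true eJ, Nat.eq_of_beq_eq_true eT, hL.T_zero,
      P.inj ha, P.inj ha'] at hmem
    simpa [node] using hmem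
  have hgoodU : ∀ m a, Good m a → ∀ u ∈ U, Good m (a * u) := by
    intro m a ha u hu
    induction hu using Submonoid.closure_induction generalizing a with
    | mem x hx =>
      obtain ⟨l, hl, rfl⟩ := hx
      intro t ht
      have h := hV.u_ok l hl
      simp only [checkU, force_eq, gate_eq, Bool.and_eq_true] at h
      have h2 := (allFrom_iff _ _ _).1 h.2 t (Nat.zero_le _) (by omega)
      simp only [force_eq, gate_eq, Bool.and_eq_true] at h2
      obtain ⟨hr, eD, eU⟩ := h2
      obtain ⟨hs, -, -, -, heq⟩ := hL.rule_ok _ (Nat.ble_eq.mp hr)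
      rw [Nat.eq_of_beq_eq_true eD, Nat.eq_of_beq_eq_true eU, P.el_val, P.el_val] at heq
      obtain ⟨m', hm', b, hb⟩ := ha _ hs
      refine ⟨m', hm', b * P.el (L.rV (C.ruleOf l t)), ?_⟩
      have e : node m * ι (a * P.el (C.uW l)) * T t =
          node m * ι a * T (L.rS (C.ruleOf l t)) * ι (P.el (L.rV (C.ruleOf l t))) := by
        rw [mul_assoc (node m * ι a), heq, map_mul]
        group
      rw [e, map_mul]
      simpa [mul_assoc] using hb
    | one => simpa using ha
    | mul x y _ _ hx hy => rw [← mul_assoc]; exact hy _ (hx _ ha)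
  have hpts : ∀ m, m < C.nLive → ∀ c, c < C.nP → Good m (P.el (C.tr c))⁻¹ := by
    intro m hm c
    generalize hr : C.rank m c = r
    induction r using Nat.strong_induction_on generalizing c with
    | _ r ih =>
      intro hc
      have h := hV.point_ok m c hm hc
      simp only [checkPoint] at h
      cases hb : Nat.beq (C.rank m c) 0 <;> rw [hb] at h
      · simp only [force_eq, gate_eq, Bool.and_eq_true] at h
        obtain ⟨hp, hlt, ha, hu', he⟩ := h
        have hp := Nat.ble_eq.mp hp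
        have ha := Nat.ble_eq.mp ha
        have hw : okP P.toTab (C.stabW m (C.via m c)) = true := by
          have h := hV.stab_ok m _ hm ha
          simp only [checkStab, force_eq, gate_eq, Bool.and_eq_true] at h
          exact h.1
        have he := Nat.eq_of_beq_eq_true he
        obtain ⟨v, hv, hev⟩ := appU_tup hU _ _ 1 hu'
        simp only [one_mul] at hev
        simp only [appU, force_eq, ← P.one] at he
        change appP P.toTab (appP P.toTab (foldW _ (C.uFor m c % 65536) _ _) _) _ = _ at he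
        rw [show wLen (C.uFor m c) = C.uFor m c % 65536 from rfl] at hev
        rw [hev, appP_tup (hTr c hc), appP_tup hw, P.one, appP_base (hTr _ hp)] at he
        have e : (P.el (C.tr c))⁻¹ =
            P.el (C.stabW m (C.via m c)) * ((P.el (C.tr (C.par m c)))⁻¹ * v) := by
          rw [← P.inj he]; group
        rw [e]
        have hg := hgoodU m _ (ih _ (hr ▸ Nat.ble_eq.mp hlt) _ rfl hp) v hv
        intro t ht
        obtain ⟨m', hm', b, hb⟩ := hg t ht
        refine ⟨m', hm', b, ?_⟩
        have h1 := (ι.range).mul_mem (hstab m hm _ ha) hb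
        rw [map_mul]
        simpa [mul_assoc] using h1
      · intro t ht
        have h2 := (allFrom_iff _ _ _).1 h t (Nat.zero_le _) (by omega)
        simp only [checkRoot, force_eq, gate_eq, Bool.and_eq_true] at h2
        obtain ⟨hs, eI, eT, eH, hn, eJ⟩ := h2
        obtain ⟨-, x, y, ⟨a, ha, rfl⟩, ⟨b, -, rfl⟩, hmem⟩ := hF _ (Nat.ble_eq.mp hs)
        have eH := Nat.eq_of_beq_eq_true eH
        rw [← ha, appP_tup (hTr c hc), ← P.one] at eH
        rw [eq_inv_of_mul_eq_one_left (P.inj eH)] at hmem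
        rw [Nat.eq_of_beq_eq_true eI, Nat.eq_of_beq_eq_true eT] at hmem
        refine ⟨_, Nat.ble_eq.mp hn, b, ?_⟩
        simpa [node, Nat.eq_of_beq_eq_true eJ, mul_assoc] using hmem
  have hgood : ∀ m, m < C.nLive → ∀ a : Q, Good m a := by
    intro m hm a
    obtain ⟨c, hc, u, hu, he⟩ := hSall a⁻¹
    have : a = (P.el (C.tr c))⁻¹ * u⁻¹ := by rw [← mul_inv_rev, ← he, inv_inv]
    rw [this]
    exact hgoodU m _ (hpts m hm c hc) _ (pow_inv U hu)
  have hCl : ∀ g : G, g ∈ Cl := by
    let R : Submonoid G :=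
      { carrier := {y | ∀ a ∈ Cl, a * y ∈ Cl}
        one_mem' := fun a ha => by simpa using ha
        mul_mem' := fun {x y} hx hy a ha => by rw [← mul_assoc]; exact hy _ (hx _ ha) }
    have hι : ∀ b : Q, ι b ∈ R := by
      rintro b g ⟨m, hm, a, ha⟩
      refine ⟨m, hm, a * b, ?_⟩
      simpa [mul_assoc] using ha
    have hT : ∀ t, t < L.nT → T t ∈ R := by
      rintro t ht g ⟨m, hm, a, ha⟩
      obtain ⟨m', hm', b, hb⟩ := hgood m hm a t ht
      refine ⟨m', hm', b, ?_⟩
      simpa [mul_assoc] using (ι.range).mul_mem ha hb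
    intro g
    have hg : g ∈ R := by
      have : g ∈ (⊤ : Subgroup G) := trivial
      rw [← hgenG] at this
      refine Subgroup.closure_induction'' (p := fun y _ => y ∈ R) ?_ ?_ R.one_mem
        (fun a b _ _ => R.mul_mem) this
      · rintro x (⟨b, rfl⟩ | ⟨t, ht, rfl⟩)
        exacts [hι b, hT t ht]
      · rintro x (⟨b, rfl⟩ | ⟨t, ht, rfl⟩)
        · rw [← map_inv]; exact hι _
        · obtain ⟨hlt, he⟩ := hL.inv_eq t ht
          rw [← eq_inv_of_mul_eq_one_right he]
          exact hT _ hlt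
    have h0 : (1 : G) ∈ Cl := by
      refine ⟨0, hV.live_zero.1, 1, ?_⟩
      have : node 0 = 1 := by simp [node, hV.live_zero.2, Steps.rep_zero]
      simp [this]
    simpa using hg 1 h0
  -- counting
  let St : Fin C.nLive → Subgroup Q :=
    fun m => (ι.range).comap ((MulAut.conj (node m)).toMonoidHom.comp ι)
  let Φ : (Σ m, Q ⧸ St m) → G ⧸ ι.range := fun x =>
    Quotient.liftOn' x.2 (fun p => (QuotientGroup.mk (ι p * (node x.1)⁻¹) : G ⧸ ι.range))
      (fun p p' h => by
        rw [QuotientGroup.leftRel_apply] at h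
        rw [QuotientGroup.eq]
        change node x.1 * ι (p⁻¹ * p') * (node x.1)⁻¹ ∈ ι.range at h
        rw [map_mul, map_inv] at h
        simpa [mul_assoc] using h)
  have hΦ : Function.Surjective Φ := by
    intro z
    induction z using QuotientGroup.induction_on with
    | _ g =>
      obtain ⟨m, hm, a, ha⟩ := hCl g⁻¹
      refine ⟨⟨⟨m, hm⟩, QuotientGroup.mk a⁻¹⟩, ?_⟩
      show (QuotientGroup.mk (ι a⁻¹ * (node m)⁻¹) : G ⧸ ι.range) = QuotientGroup.mk g
      rw [QuotientGroup.eq]
      simpa [mul_assoc] using (ι.range).inv_mem ha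
  have hfin : Finite (G ⧸ ι.range) := Finite.of_surjective Φ hΦ
  have h2 : ∀ m : Fin C.nLive, Nat.card (Q ⧸ St m) ≤ C.idx m := by
    intro m
    have hge := P.card_ge (St m) (C.chain m)
      (fun l a hl ha => by
        obtain ⟨b, hb, he⟩ := hV.chain_mem m l a m.2 hl ha
        rw [he]
        exact hstab m m.2 b hb)
      (fun l a => hV.chain_gen m l a m.2) (fun l j => hV.chain_pt m l j m.2)
    have hidx := hV.idx_eq m m.2
    rw [← Subgroup.index_eq_card]
    have hmul := (St m).card_mul_index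
    have hpos : 0 < Nat.card (St m) := Nat.card_pos
    refine Nat.le_of_mul_le_mul_left ?_ hpos
    calc Nat.card (St m) * (St m).index = Nat.card Q := hmul
      _ ≤ NQ := hQ
      _ = C.idx m * ((List.range P.k).map (C.chain m).size).prod := hidx.symm
      _ ≤ C.idx m * Nat.card (St m) := Nat.mul_le_mul_left _ hge
      _ = Nat.card (St m) * C.idx m := Nat.mul_comm _ _
  have hsum : ∑ m : Fin C.nLive, C.idx m = ((List.range C.nLive).map C.idx).sum := by
    rw [Fin.sum_univ_eq_sum_range (fun m => C.idx m) C.nLive]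
    rfl
  have hfs : ∀ m, Finite (Q ⧸ St m) := fun m => inferInstance
  have hcard : Nat.card (Σ m, Q ⧸ St m) = ∑ m : Fin C.nLive, Nat.card (Q ⧸ St m) := Nat.card_sigma
  have hle1 : ι.range.index ≤ Nat.card (Σ m, Q ⧸ St m) := Nat.card_le_card_of_surjective Φ hΦ
  have hle2 : ∑ m : Fin C.nLive, Nat.card (Q ⧸ St m) ≤ ∑ m : Fin C.nLive, C.idx m :=
    Finset.sum_le_sum fun m _ => h2 m
  have hbij : Function.Bijective Φ :=
    (Nat.bijective_iff_surjective_and_card Φ).2 ⟨hΦ, by rw [← Subgroup.index_eq_card]; omega⟩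
  have heq : ∀ m : Fin C.nLive, Nat.card (Q ⧸ St m) = C.idx m := fun m =>
    (Finset.sum_eq_sum_iff_of_le fun m _ => h2 m).1 (by omega) m (Finset.mem_univ m)
  let e := Equiv.ofBijective Φ hbij
  let pt : Fin C.nLive → G ⧸ ι.range := fun m => QuotientGroup.mk (node m)⁻¹
  have hstabpt : ∀ m, (MulAction.stabilizer G (pt m)).comap ι = St m := by
    intro m
    ext p
    rw [Subgroup.mem_comap, MulAction.mem_stabilizer_iff]
    show (QuotientGroup.mk (ι p * (node m)⁻¹) : G ⧸ ι.range) = QuotientGroup.mk (node m)⁻¹ ↔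
      node m * ι p * (node m)⁻¹ ∈ ι.range
    rw [QuotientGroup.eq, ← inv_mem_iff]
    simp [mul_assoc]
  refine ⟨pt, fun z => (e.symm z).1, fun q z => ?_, fun z => ?_, fun m => ?_, fun m => ?_, fun m hm => ?_⟩
  · obtain ⟨⟨m, c⟩, rfl⟩ := e.surjective z
    induction c using QuotientGroup.induction_on with
    | _ p =>
      have h : e ⟨m, QuotientGroup.mk (q * p)⟩ = ι q • e ⟨m, QuotientGroup.mk p⟩ := by
        show (QuotientGroup.mk (ι (q * p) * (node m)⁻¹) : G ⧸ ι.range) =
          QuotientGroup.mk (ι q * (ι p * (node m)⁻¹))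
        rw [map_mul, mul_assoc]
      show (e.symm (ι q • e _)).1 = (e.symm (e _)).1
      rw [← h, e.symm_apply_apply, e.symm_apply_apply]
  · obtain ⟨⟨m, c⟩, rfl⟩ := e.surjective z
    induction c using QuotientGroup.induction_on with
    | _ p =>
      refine ⟨p, ?_⟩
      show e _ = ι p • pt (e.symm (e _)).1
      rw [e.symm_apply_apply]
      rfl
  · rw [← heq m]
    exact Nat.card_congr (((e.symm.subtypeEquiv fun z => Iff.rfl)).trans (Equiv.sigmaSubtype m))
  · rw [hstabpt, ← heq m, ← Subgroup.index_eq_card, Subgroup.card_mul_index]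
  · show (QuotientGroup.mk (node m)⁻¹ : G ⧸ ι.range) = QuotientGroup.mk 1
    simp [node, hm, hV.live_zero.2, Steps.rep_zero]

end Cfsg.Agent.DCoset.Cover
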