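import Cfsg.Agent.DCoset.Count
import Cfsg.Agent.DCoset.Emit

/-!
Elements of a model as products of transversal words for a base of points of one orbit, and a check that the elements
commuting with given ones are among listed tuples.
-/

namespace Cfsg.Agent.DCoset

open Cfsg.Agent.CosetCert

/-- A base of points with transversal words for every level, and inverse words. -/
structure Sift where
  /-- number of levels -/
  k : Nat
  bs : Nat → Nat
  size : Nat → Nat
  pt : Nat → Nat → Nat
  rep : Nat → Nat → Nat
  repi : Nat → Nat → Nat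
  pos : Nat → Nat → Nat
  /-- the base point `l` is the root `sel l` moved by the word `mv l` -/
  sel : Nat → Nat
  mv : Nat → Nat
  root : Nat → Nat

namespace Sift

variable (S : Sift) (P : Tab)

/-- The transversal word `i` of level `l`. -/
noncomputable def checkRep (l i : Nat) : Bool :=
  force (S.rep l i) fun w => force (S.repi l i) fun w' => gate (P.okWord w) (gate (P.okWord w')
    (gate (Nat.beq (P.app (P.app P.base w) w') P.base)
      (gate (Nat.beq (actW P.act (S.bs l) w) (S.pt l i)) (gate (Nat.beq (S.pos l (S.pt l i)) i)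
        (allFrom (fun b => Nat.beq (actW P.act (S.bs b) w) (S.bs b)) 0 l)))))

/-- The base points come from the roots. -/
noncomputable def checkMv (l : Nat) : Bool :=
  force (S.mv l) fun g => gate (P.okWord g) (Nat.beq (actW P.act (S.root (S.sel l)) g) (S.bs l))

/-- The base points are among the `N` points, the first level reaches each of them, letters preserve them. -/
noncomputable def checkPts (N : Nat) (p : Nat) : Bool :=
  force (S.pos 0 p) fun i => gate (Nat.blt i (S.size 0)) (gate (Nat.beq (S.pt 0 i) p)
    (allFrom (fun g => Nat.blt (P.act g p) N) 0 P.nL))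

/-- Sift the images `tgt l` of the base points: either some level is not reached, or the product found is good. -/
noncomputable def siftB (tgt : Nat → Nat) (good : List Nat → Bool) :
    Nat → Nat → (Nat → Nat) → List Nat → Bool :=
  fun d => Nat.rec (fun _ _ acc => good acc)
    (fun _ ih l f acc => force (f (tgt l)) fun p => force (S.pos l p) fun i =>
      Bool.rec (motive := fun _ => Bool) true
        (ih (Nat.succ l) (fun x => actW P.act (f x) (S.repi l i)) (S.rep l i :: acc))
        (gate (Nat.blt i (S.size l)) (Nat.beq (S.pt l i) p))) d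

/-- All choices of images of two roots. -/
noncomputable def checkCand (good : List Nat → Bool) (a b : Nat) : Bool :=
  siftB S P (fun l => actW P.act (Bool.rec (motive := fun _ => Nat) b a (Nat.beq (S.sel l) 0)) (S.mv l)) good
    S.k 0 (fun x => x) []

end Sift

/-- A product of words. -/
def evL {Q : Type*} [Group Q] (P : QModel Q) (ws : List Nat) : Q := (ws.map P.el).prod

/-- A point moved by words, the first one first. -/
noncomputable def apL (P : Tab) (p : Nat) (ws : List Nat) : Nat := ws.foldl (actW P.act) p

/-- The tuple of a product of words. -/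
noncomputable def tupL (P : Tab) (ws : List Nat) : Nat := ws.foldl P.app P.base

namespace Sift

variable {Q : Type*} [Group Q] (P : QModel Q) (S : Sift)

/-- The image of a point under an element. -/
noncomputable def img (a : Q) (p : Nat) : Nat := fld (P.tup (P.el (S.rep 0 (S.pos 0 p)) * a)) 0

/-- All conditions on the data, for `N` points and a group of order `NQ`. -/
structure Valid (N NQ : Nat) : Prop where
  pos_k : 0 < P.k
  lev : 0 < S.k
  bs_zero : S.bs 0 = fld P.base 0
  bs_lt : ∀ l, l < S.k → S.bs l < N
  rep_ok : ∀ l i, l < S.k → i < S.size l → checkRep S P.toTab l i = true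
  pts_ok : ∀ p, p < N → checkPts S P.toTab N p = true
  mv_ok : ∀ l, l < S.k → checkMv S P.toTab l = true
  prod_eq : ((List.range S.k).map S.size).prod = NQ

variable {P S}

theorem evL_cons (w : Nat) (ws : List Nat) : evL P (w :: ws) = P.el w * evL P ws := by simp [evL]

theorem evL_append (u v : List Nat) : evL P (u ++ v) = evL P u * evL P v := by simp [evL]

theorem app_tup {w : Nat} (hw : P.toTab.okWord w = true) (a : Q) :
    P.toTab.app (P.tup a) w = P.tup (a * P.el w) := by
  rw [Tab.app, force_eq]
  exact (P.tup_mul_word _ _ _ hw).symm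

theorem tupL_eq (ws : List Nat) (h : ∀ w ∈ ws, P.toTab.okWord w = true) :
    tupL P.toTab ws = P.tup (evL P ws) := by
  induction ws using List.reverseRecOn with
  | nil => simp [tupL, evL, P.one]
  | append_singleton ws w ih =>
    rw [tupL, List.foldl_append, List.foldl_cons, List.foldl_nil,
      show ws.foldl P.toTab.app P.base = tupL P.toTab ws from rfl, ih fun x hx => h x (by simp [hx]),
      app_tup (h w (by simp)), evL_append]
    simp [evL]

theorem fld_tup_evL (hk : 0 < P.k) (a : Q) (ws : List Nat) (h : ∀ w ∈ ws, P.toTab.okWord w = true) :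
    fld (P.tup (a * evL P ws)) 0 = apL P.toTab (fld (P.tup a) 0) ws := by
  induction ws generalizing a with
  | nil => simp [apL, evL]
  | cons w ws ih =>
    rw [evL_cons, ← mul_assoc, ih _ fun x hx => h x (by simp [hx]), P.fld_tup_mul w (h w (by simp)) a hk]
    rfl

theorem siftB_zero (tgt : Nat → Nat) (good : List Nat → Bool) (l : Nat) (F : Nat → Nat) (acc : List Nat) :
    siftB S P.toTab tgt good 0 l F acc = good acc := rfl

theorem siftB_succ (tgt : Nat → Nat) (good : List Nat → Bool) (d l : Nat) (F : Nat → Nat) (acc : List Nat) :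
    siftB S P.toTab tgt good (d + 1) l F acc =
      Bool.rec (motive := fun _ => Bool) true
        (siftB S P.toTab tgt good d (l + 1) (fun x => actW P.act (F x) (S.repi l (S.pos l (F (tgt l)))))
          (S.rep l (S.pos l (F (tgt l))) :: acc))
        (Nat.blt (S.pos l (F (tgt l))) (S.size l) &&
          Nat.beq (S.pt l (S.pos l (F (tgt l)))) (F (tgt l))) := by
  simp only [siftB, force_eq, gate_eq]

namespace Valid

variable {N NQ : Nat} (V : Valid P S N NQ)
include V

theorem rep_spec {l i : Nat} (hl : l < S.k) (hi : i < S.size l) :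
    P.toTab.okWord (S.rep l i) = true ∧ P.toTab.okWord (S.repi l i) = true ∧
    P.el (S.rep l i) * P.el (S.repi l i) = 1 ∧ actW P.act (S.bs l) (S.rep l i) = S.pt l i ∧
    S.pos l (S.pt l i) = i ∧ ∀ b, b < l → actW P.act (S.bs b) (S.rep l i) = S.bs b := by
  have h := V.rep_ok l i hl hi
  simp only [checkRep, force_eq, gate_eq, Bool.and_eq_true] at h
  obtain ⟨h1, h2, h3, h4, h5, h6⟩ := h
  refine ⟨h1, h2, P.inj ?_, Nat.eq_of_beq_eq_true h4, Nat.eq_of_beq_eq_true h5,
    fun b hb => Nat.eq_of_beq_eq_true ((allFrom_iff _ _ _).1 h6 b (Nat.zero_le _) (by omega))⟩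
  have e := Nat.eq_of_beq_eq_true h3
  rw [← P.one, app_tup h1, app_tup h2, one_mul] at e
  exact e

theorem pts_spec {p : Nat} (hp : p < N) :
    S.pos 0 p < S.size 0 ∧ S.pt 0 (S.pos 0 p) = p ∧ ∀ g, g < P.nL → P.act g p < N := by
  have h := V.pts_ok p hp
  simp only [checkPts, force_eq, gate_eq, Bool.and_eq_true] at h
  exact ⟨Nat.ble_eq.mp h.1, Nat.eq_of_beq_eq_true h.2.1,
    fun g hg => Nat.ble_eq.mp ((allFrom_iff _ _ _).1 h.2.2 g (Nat.zero_le _) (by omega))⟩

theorem actW_lt {p w : Nat} (hp : p < N) (hw : P.toTab.okWord w = true) : actW P.act p w < N := by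
  revert hw
  show lettersBelow P.nL (wLen w) (wBody w) = true → foldW P.act (wLen w) (wBody w) p < N
  generalize wLen w = n, wBody w = u
  induction n generalizing u p with
  | zero => intro _; simpa [foldW] using hp
  | succ n ih =>
    intro h
    rw [lettersBelow_succ, Bool.and_eq_true] at h
    rw [foldW_succ]
    exact ih ((V.pts_spec hp).2.2 _ (Nat.ble_eq.mp h.1)) _ h.2

theorem apL_lt {p : Nat} (ws : List Nat) (hp : p < N) (h : ∀ w ∈ ws, P.toTab.okWord w = true) :
    apL P.toTab p ws < N := by
  induction ws generalizing p with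
  | nil => simpa [apL] using hp
  | cons w ws ih => exact ih (V.actW_lt hp (h w (by simp))) fun x hx => h x (by simp [hx])

theorem img_evL {p : Nat} (hp : p < N) (ws : List Nat) (h : ∀ w ∈ ws, P.toTab.okWord w = true) :
    img P S (evL P ws) p = apL P.toTab p ws := by
  obtain ⟨h1, h2, -⟩ := V.pts_spec hp
  obtain ⟨r1, -, -, r4, -, -⟩ := V.rep_spec V.lev h1
  rw [img, fld_tup_evL V.pos_k _ _ h]
  congr 1
  have e := P.fld_tup_mul (S.rep 0 (S.pos 0 p)) r1 1 V.pos_k
  rw [one_mul, P.one, ← V.bs_zero, r4, h2] at e
  exact e

/-- The words of one choice of an index for each level from `l` on, the highest level first. -/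
def words (f : Nat → Nat) : Nat → Nat → List Nat
  | _, 0 => []
  | l, d + 1 => words f (l + 1) d ++ [S.rep l (f l)]

omit V in
theorem mem_words {f : Nat → Nat} : ∀ {l d w}, w ∈ words (S := S) f l d →
    ∃ j, l ≤ j ∧ j < l + d ∧ w = S.rep j (f j)
  | _, 0, _, h => by simp [words] at h
  | l, d + 1, w, h => by
    simp only [words, List.mem_append, List.mem_singleton] at h
    rcases h with h | rfl
    · obtain ⟨j, h1, h2, h3⟩ := mem_words h
      exact ⟨j, by omega, by omega, h3⟩
    · exact ⟨l, le_rfl, by omega, rfl⟩

theorem ok_words {f : Nat → Nat} (hf : ∀ j, j < S.k → f j < S.size j) {l d : Nat} (hd : l + d ≤ S.k) :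
    ∀ w ∈ words (S := S) f l d, P.toTab.okWord w = true := by
  intro w hw
  obtain ⟨j, -, h2, rfl⟩ := mem_words hw
  exact (V.rep_spec (by omega) (hf j (by omega))).1

theorem apL_words_fix {f : Nat → Nat} (hf : ∀ j, j < S.k → f j < S.size j) {b : Nat} :
    ∀ {l d}, l + d ≤ S.k → b < l → apL P.toTab (S.bs b) (words (S := S) f l d) = S.bs b
  | _, 0, _, _ => rfl
  | l, d + 1, hd, hb => by
    rw [words, apL, List.foldl_append, List.foldl_cons, List.foldl_nil]
    show actW P.act (apL P.toTab _ _) _ = _
    rw [apL_words_fix hf (by omega) (Nat.lt_succ_of_lt hb)]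
    exact (V.rep_spec (by omega) (hf l (by omega))).2.2.2.2.2 b hb

theorem words_inj {f g : Nat → Nat} (hf : ∀ j, j < S.k → f j < S.size j) (hg : ∀ j, j < S.k → g j < S.size j) :
    ∀ {l d}, l + d ≤ S.k → evL P (words (S := S) f l d) = evL P (words (S := S) g l d) →
      ∀ j, l ≤ j → j < l + d → f j = g j
  | _, 0, _, _ => fun j h1 h2 => absurd h1 (by omega)
  | l, d + 1, hd, he => by
    have hl : l < S.k := by omega
    have hval : ∀ (h : Nat → Nat), (∀ j, j < S.k → h j < S.size j) →
        img P S (evL P (words (S := S) h l (d + 1))) (S.bs l) = S.pt l (h l) := by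
      intro h hh
      rw [V.img_evL (V.bs_lt l hl) _ (V.ok_words hh hd), words, apL, List.foldl_append, List.foldl_cons,
        List.foldl_nil]
      show actW P.act (apL P.toTab _ _) _ = _
      rw [V.apL_words_fix hh (by omega) (Nat.lt_succ_self l)]
      exact (V.rep_spec hl (hh l hl)).2.2.2.1
    have e1 : f l = g l := by
      have h := hval g hg
      rw [← he, hval f hf] at h
      have := congrArg (S.pos l) h
      rwa [(V.rep_spec hl (hf l hl)).2.2.2.2.1, (V.rep_spec hl (hg l hl)).2.2.2.2.1] at this
    intro j h1 h2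
    rcases Nat.eq_or_lt_of_le h1 with rfl | h1
    · exact e1
    · refine words_inj hf hg (l := l + 1) (d := d) (by omega) ?_ j h1 (by omega)
      simp only [words, evL_append] at he
      rw [e1] at he
      exact mul_right_cancel he

/-- Every element is a product of transversal words. -/
theorem exists_words [Finite Q] (hQ : Nat.card Q ≤ NQ) (a : Q) :
    ∃ f : Nat → Nat, (∀ j, j < S.k → f j < S.size j) ∧ a = evL P (words (S := S) f 0 S.k) := by
  let D := (l : Fin S.k) → Fin (S.size l)
  let ext : D → Nat → Nat := fun d j => if h : j < S.k then (d ⟨j, h⟩ : Nat) else 0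
  have hext : ∀ d j, j < S.k → ext d j < S.size j := fun d j hj => by
    simp only [ext, dif_pos hj]
    exact (d ⟨j, hj⟩).2
  let Φ : D → Q := fun d => evL P (words (S := S) (ext d) 0 S.k)
  have hinj : Function.Injective Φ := fun d e h => funext fun l => by
    have := V.words_inj (hext d) (hext e) (Nat.le_of_eq (Nat.zero_add _)) h l (Nat.zero_le _)
      (by rw [Nat.zero_add]; exact l.2)
    simp only [ext, dif_pos l.2] at this
    exact Fin.ext this
  have hcard : Nat.card D = NQ := by
    rw [← V.prod_eq, Nat.card_pi]
    simp only [Nat.card_fin]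
    rw [Fin.prod_univ_eq_prod_range (fun m => S.size m) S.k]
    rfl
  have hbij : Function.Bijective Φ :=
    (Nat.bijective_iff_injective_and_card Φ).2
      ⟨hinj, le_antisymm (Nat.card_le_card_of_injective Φ hinj) (hcard ▸ hQ)⟩
  obtain ⟨d, hd⟩ := hbij.2 a
  exact ⟨ext d, hext d, hd.symm⟩

theorem img_mul [Finite Q] (hQ : Nat.card Q ≤ NQ) (a b : Q) {p : Nat} (hp : p < N) :
    img P S (a * b) p = img P S b (img P S a p) := by
  obtain ⟨f, hf, rfl⟩ := V.exists_words hQ a
  obtain ⟨g, hg, rfl⟩ := V.exists_words hQ b
  have h1 := V.ok_words hf (l := 0) (d := S.k) (by omega)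
  have h2 := V.ok_words hg (l := 0) (d := S.k) (by omega)
  rw [← evL_append, V.img_evL hp _ (fun w hw => (List.mem_append.1 hw).elim (h1 w) (h2 w)),
    V.img_evL hp _ h1, V.img_evL (V.apL_lt _ hp h1) _ h2]
  simp [apL]

theorem img_lt [Finite Q] (hQ : Nat.card Q ≤ NQ) (a : Q) {p : Nat} (hp : p < N) : img P S a p < N := by
  obtain ⟨f, hf, rfl⟩ := V.exists_words hQ a
  have h1 := V.ok_words hf (l := 0) (d := S.k) (by omega)
  rw [V.img_evL hp _ h1]
  exact V.apL_lt _ hp h1

theorem img_el {p w : Nat} (hp : p < N) (hw : P.toTab.okWord w = true) :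
    img P S (P.el w) p = actW P.act p w := by
  have := V.img_evL hp [w] (by simpa using hw)
  simpa [evL, apL] using this

theorem siftB_sound {f : Nat → Nat} (hf : ∀ j, j < S.k → f j < S.size j) (tgt : Nat → Nat)
    (good : List Nat → Bool) (ht : ∀ l, l < S.k → tgt l = apL P.toTab (S.bs l) (words (S := S) f 0 S.k)) :
    ∀ d l (F : Nat → Nat), l + d = S.k →
      (∀ x, x < N → F (apL P.toTab x (words (S := S) f 0 l)) = x) →
      siftB S P.toTab tgt good d l F (words (S := S) f 0 l) = true →
      good (words (S := S) f 0 S.k) = true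
  | 0, l, F, hl, _, h => by
    obtain rfl : l = S.k := by omega
    rwa [siftB_zero] at h
  | d + 1, l, F, hl, hF, h => by
    have hl' : l < S.k := by omega
    obtain ⟨h1, h2, h3, h4, h5, -⟩ := V.rep_spec hl' (hf l hl')
    have hsplit' : ∀ n l m, words (S := S) f l (n + m) = words (S := S) f (l + n) m ++ words (S := S) f l n := by
      intro n
      induction n with
      | zero => intro l m; simp [words]
      | succ n ih =>
        intro l m
        rw [show n + 1 + m = n + m + 1 by omega, words, words, ih (l + 1) m, List.append_assoc,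
          show l + 1 + n = l + (n + 1) by omega]
    have hsplit : ∀ n m, words (S := S) f 0 (n + m) = words (S := S) f n m ++ words (S := S) f 0 n := fun n m => by
      have := hsplit' n 0 m
      rwa [Nat.zero_add] at this
    have hP : apL P.toTab (S.bs l) (words (S := S) f l (d + 1)) = S.pt l (f l) := by
      rw [words, apL, List.foldl_append, List.foldl_cons, List.foldl_nil]
      show actW P.act (apL P.toTab _ _) _ = _
      rw [V.apL_words_fix hf (by omega) (Nat.lt_succ_self l)]
      exact h4
    have hptN : S.pt l (f l) < N := by rw [← h4]; exact V.actW_lt (V.bs_lt l hl') h1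
    have hp : F (tgt l) = S.pt l (f l) := by
      rw [ht l hl', show words (S := S) f 0 S.k = words (S := S) f l (d + 1) ++ words (S := S) f 0 l by
        rw [← hsplit, hl], apL, List.foldl_append]
      show F (apL P.toTab (apL P.toTab (S.bs l) _) _) = _
      rw [hP, hF _ hptN]
    simp only [siftB_succ, hp, h5, Nat.beq_refl, Bool.and_true] at h
    rw [show Nat.blt (f l) (S.size l) = true from Nat.ble_eq.mpr (hf l hl')] at h
    have e1 : words (S := S) f 0 (l + 1) = S.rep l (f l) :: words (S := S) f 0 l := by
      rw [hsplit l 1]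
      rfl
    refine siftB_sound hf tgt good ht d (l + 1) (fun x => actW P.act (F x) (S.repi l (f l))) (by omega) ?_
      (by rw [e1]; exact h)
    intro x hx
    rw [e1, apL, List.foldl_cons]
    show actW P.act (F (apL P.toTab (actW P.act x (S.rep l (f l))) _)) _ = x
    rw [hF _ (V.actW_lt hx h1)]
    have e := V.img_evL hx [S.rep l (f l), S.repi l (f l)] (by simp [h1, h2])
    rw [evL_cons, evL_cons, show evL P [] = (1 : Q) from rfl, mul_one, h3] at e
    simp only [apL, List.foldl_cons, List.foldl_nil] at e
    rw [← e]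
    exact V.img_evL hx [] (by simp)

/-- Elements that send the roots to `a`, `b` and commute with the moving words are good. -/
theorem cand_sound [Finite Q] (hQ : Nat.card Q ≤ NQ) (good : List Nat → Bool) (q : Q)
    (hroot : ∀ l, l < S.k → S.root (S.sel l) < N)
    (hcomm : ∀ l, l < S.k → Commute q (P.el (S.mv l))) {a b : Nat}
    (hab : ∀ l, l < S.k → img P S q (S.root (S.sel l)) = if S.sel l = 0 then a else b)
    (h : checkCand S P.toTab good a b = true) :
    ∃ ws : List Nat, (∀ w ∈ ws, P.toTab.okWord w = true) ∧ q = evL P ws ∧ good ws = true := by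
  obtain ⟨f, hf, rfl⟩ := V.exists_words hQ q
  refine ⟨_, V.ok_words hf (by omega), rfl,
    V.siftB_sound hf _ good (fun l hl => ?_) S.k 0 (fun x => x) (Nat.zero_add _) (fun x _ => rfl) h⟩
  have hm := V.mv_ok l hl
  simp only [checkMv, force_eq, gate_eq, Bool.and_eq_true] at hm
  obtain ⟨hg, hbs⟩ := hm
  have hbs := Nat.eq_of_beq_eq_true hbs
  have hok := V.ok_words hf (l := 0) (d := S.k) (by omega)
  rw [← V.img_evL (V.bs_lt l hl) _ hok, ← hbs, ← V.img_el (hroot l hl) hg, ← V.img_mul hQ _ _ (hroot l hl),
    ← (hcomm l hl).eq, V.img_mul hQ _ _ (hroot l hl), hab l hl]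
  by_cases h0 : S.sel l = 0
  · rw [if_pos h0, h0, Nat.beq_refl]
    exact (V.img_el (by have := V.img_lt hQ (evL P (words (S := S) f 0 S.k)) (hroot l hl)
                        rw [hab l hl, if_pos h0] at this; exact this) hg).symm
  · rw [if_neg h0]
    have : Nat.beq (S.sel l) 0 = false := by
      cases hb : Nat.beq (S.sel l) 0
      · rfl
      · exact absurd (Nat.eq_of_beq_eq_true hb) h0
    rw [this]
    exact (V.img_el (by have := V.img_lt hQ (evL P (words (S := S) f 0 S.k)) (hroot l hl)
                        rw [hab l hl, if_neg h0] at this; exact this) hg).symm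

end Valid

end Sift

end Cfsg.Agent.DCoset
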