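import Cfsg.Agent.DCoset.Count

/-!
A logged coset enumeration over the image of a model in which every fact carries its element of
the subgroup: `r u * x = ι (label) * r v`.  Closed walks then give values, not only cosets.
-/

namespace Cfsg.Agent.DCoset

open Cfsg.Agent.CosetCert

/-- The log.  An item is `2 * m` for fact `m` read forwards and `2 * m + 1` backwards. -/
structure Track where
  /-- code of the empty letter -/
  K : Nat
  /-- number of definitions -/
  M : Nat
  /-- number of facts -/
  len : Nat
  iv : Nat → Nat
  src : Nat → Nat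
  lt : Nat → Nat
  dst : Nat → Nat
  /-- label and inverse label, as words in the letters of the model -/
  lab : Nat → Nat
  labI : Nat → Nat
  /-- the word number of the cycle closed by a fact, its start, the items before and after -/
  rel : Nat → Nat
  at' : Nat → Nat
  nb : Nat → Nat
  na : Nat → Nat
  items : Nat → Nat
  nW : Nat
  /-- the spelling of word `k` -/
  word : Nat → List Nat
  /-- its value in the model -/
  tgt : Nat → Nat
  /-- whether it may be read at the root only -/
  rootOnly : Nat → Bool

namespace Track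

variable (D : Track) (P : Tab)

/-- Remove the letter `x` from the front of a word. -/
noncomputable def eatL (x : Nat) (w : List Nat) (next : List Nat → Bool) : Bool :=
  Bool.rec (motive := fun _ => Bool)
    (List.rec (motive := fun _ => Bool) false (fun y t _ => gate (Nat.beq y x) (next t)) w)
    (next w) (Nat.beq x D.K)

/-- Follow `n` items below `i`. -/
noncomputable def walkT (i : Nat) (fin : Nat → Nat → List Nat → Bool) :
    Nat → Nat → Nat → Nat → List Nat → Bool :=
  fun n => Nat.rec (fun _ cur t w => fin cur t w)
    (fun _ ih its cur t w => force (Nat.mod its 16777216) fun it =>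
      force (Nat.div it 2) fun m => gate (Nat.blt m i)
        (Bool.rec (motive := fun _ => Bool)
          (gate (Nat.beq cur (D.dst m)) (eatL D (D.iv (D.lt m)) w fun w' =>
            force (P.app t (D.labI m)) fun t' => force (D.src m) fun c =>
              ih (Nat.div its 16777216) c t' w'))
          (gate (Nat.beq cur (D.src m)) (eatL D (D.lt m) w fun w' =>
            force (P.app t (D.lab m)) fun t' => force (D.dst m) fun c =>
              ih (Nat.div its 16777216) c t' w'))
          (Nat.beq (Nat.mod it 2) 0))) n

/-- A definition: a new point, with trivial label. -/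
noncomputable def checkNew (i : Nat) : Bool :=
  gate (Nat.beq (D.dst i) (Nat.succ i)) (gate (Nat.ble (D.src i) i)
    (gate (Nat.beq (wLen (D.lab i)) 0) (Nat.beq (wLen (D.labI i)) 0)))

/-- A fact closing a cycle. -/
noncomputable def checkClose (i : Nat) : Bool :=
  force (D.rel i) fun k => force (D.at' i) fun c => gate (Nat.blt k D.nW)
    (gate (Bool.rec (motive := fun _ => Bool) true (Nat.beq c 0) (D.rootOnly k))
      (gate (P.okWord (D.lab i)) (gate (P.okWord (D.labI i))
        (gate (Nat.beq (P.app (P.app P.base (D.lab i)) (D.labI i)) P.base)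
          (force (D.items i) fun its =>
            walkT D P i (fun cur t w => gate (Nat.beq cur (D.src i)) (eatL D (D.lt i) w fun w' =>
                force (P.app t (D.lab i)) fun t' =>
                  walkT D P i (fun cur' t'' w'' => gate (Nat.beq cur' c) (gate (w''.isEmpty)
                      (Nat.beq t'' (D.tgt k))))
                    (D.na i) (Nat.shiftRight its (Nat.mul 24 (D.nb i))) (D.dst i) t' w'))
              (D.nb i) its c P.base (D.word k))))))

/-- Fact `i` is justified. -/
noncomputable def check (i : Nat) : Bool :=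
  Bool.rec (motive := fun _ => Bool) (checkClose D P i) (checkNew D i) (Nat.blt i D.M)

/-- A closed walk from the root spelling a word, with the value reached. -/
noncomputable def checkValue (w : List Nat) (n its v : Nat) : Bool :=
  walkT D P D.len (fun cur t w' => gate (Nat.beq cur 0) (gate (w'.isEmpty) (Nat.beq t v)))
    n its 0 P.base w

end Track

namespace Track

variable {D : Track} {Q : Type*} [Group Q] {P : QModel Q}

theorem walkT_succ {i : Nat} {fin : Nat → Nat → List Nat → Bool} {n its cur t : Nat} {w : List Nat} :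
    walkT D P.toTab i fin (n + 1) its cur t w =
      (Nat.blt (its % 16777216 / 2) i &&
        Bool.rec (motive := fun _ => Bool)
          (Nat.beq cur (D.dst (its % 16777216 / 2)) &&
            eatL D (D.iv (D.lt (its % 16777216 / 2))) w fun w' =>
              walkT D P.toTab i fin n (its / 16777216) (D.src (its % 16777216 / 2))
                (P.toTab.app t (D.labI (its % 16777216 / 2))) w')
          (Nat.beq cur (D.src (its % 16777216 / 2)) &&
            eatL D (D.lt (its % 16777216 / 2)) w fun w' =>
              walkT D P.toTab i fin n (its / 16777216) (D.dst (its % 16777216 / 2))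
                (P.toTab.app t (D.lab (its % 16777216 / 2))) w')
          (Nat.beq (its % 16777216 % 2) 0)) := by
  simp only [walkT, force_eq, gate_eq]
  rfl

variable {G : Type*} [Group G]

theorem eatL_sound {lv : Nat → G} (hK : lv D.K = 1) {x : Nat} {w : List Nat}
    {next : List Nat → Bool} (h : eatL D x w next = true) :
    ∃ w', next w' = true ∧ (w.map lv).prod = lv x * (w'.map lv).prod := by
  simp only [eatL] at h
  cases hx : Nat.beq x D.K <;> rw [hx] at h
  · cases w with
    | nil => simp at h
    | cons y t =>
      simp only [gate_eq, Bool.and_eq_true] at h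
      exact ⟨t, h.2, by rw [List.map_cons, List.prod_cons, Nat.eq_of_beq_eq_true h.1]⟩
  · exact ⟨w, h, by rw [Nat.eq_of_beq_eq_true hx, hK, one_mul]⟩

/-- What is assumed of the letters. -/
structure Sound (D : Track) (P : QModel Q) (ι : Q →* G) (lv : Nat → G) : Prop where
  K_one : lv D.K = 1
  iv_eq : ∀ x, lv (D.iv x) = (lv x)⁻¹
  word_eq : ∀ k, k < D.nW → ∃ b : Q, P.tup b = D.tgt k ∧ ((D.word k).map lv).prod = ι b ∧
    (D.rootOnly k = false → b = 1)

variable (ι : Q →* G) (lv : Nat → G)

/-- The representative of a point. -/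
noncomputable def rp (D : Track) (lv : Nat → G) : Nat → G
  | 0 => 1
  | i + 1 => if D.src i ≤ i then rp D lv (D.src i) * lv (D.lt i) else 1
  decreasing_by omega

/-- Fact `m` holds. -/
def Holds (D : Track) (P : QModel Q) (ι : Q →* G) (lv : Nat → G) (m : Nat) : Prop :=
  P.toTab.okWord (D.lab m) = true ∧ P.toTab.okWord (D.labI m) = true ∧
    P.el (D.lab m) * P.el (D.labI m) = 1 ∧
    rp D lv (D.src m) * lv (D.lt m) = ι (P.el (D.lab m)) * rp D lv (D.dst m)

theorem app_tup' {w : Nat} (hw : P.toTab.okWord w = true) (a : Q) :
    P.toTab.app (P.tup a) w = P.tup (a * P.el w) := by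
  rw [Tab.app, force_eq]
  exact (P.tup_mul_word _ _ _ hw).symm

variable {ι lv}

theorem walkT_sound (S : Sound D P ι lv) {i : Nat} (hprev : ∀ m, m < i → Holds D P ι lv m)
    {fin : Nat → Nat → List Nat → Bool} :
    ∀ {n its cur : Nat} {a : Q} {w : List Nat}, walkT D P.toTab i fin n its cur (P.tup a) w = true →
      ∀ g : G, g = ι a * rp D lv cur →
        ∃ cur' b w', fin cur' (P.tup b) w' = true ∧
          g * (w.map lv).prod = ι b * rp D lv cur' * (w'.map lv).prod
  | 0, its, cur, a, w, h, g, hg => ⟨cur, a, w, h, by rw [hg]⟩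
  | n + 1, its, cur, a, w, h, g, hg => by
    rw [walkT_succ, Bool.and_eq_true] at h
    obtain ⟨hm, h⟩ := h
    obtain ⟨ok, okI, hinv, heq⟩ := hprev _ (Nat.ble_eq.mp hm)
    cases hd : Nat.beq (its % 16777216 % 2) 0 <;> rw [hd] at h
    · simp only [Bool.and_eq_true] at h
      obtain ⟨hc, h⟩ := h
      obtain ⟨w₁, h, hw⟩ := eatL_sound S.K_one h
      rw [app_tup' okI] at h
      obtain ⟨c', b, w', hf, he⟩ := walkT_sound S hprev h _ rfl
      refine ⟨c', b, w', hf, ?_⟩
      rw [← he, hg, Nat.eq_of_beq_eq_true hc, hw, S.iv_eq, map_mul,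
        eq_inv_of_mul_eq_one_right hinv, map_inv]
      have e : rp D lv (D.dst (its % 16777216 / 2)) * (lv (D.lt (its % 16777216 / 2)))⁻¹ =
          (ι (P.el (D.lab (its % 16777216 / 2))))⁻¹ * rp D lv (D.src (its % 16777216 / 2)) := by
        rw [eq_inv_mul_iff_mul_eq, ← mul_assoc, ← heq, mul_inv_cancel_right]
      simp only [← mul_assoc]
      rw [mul_assoc (ι a) _ (lv _)⁻¹, e, ← mul_assoc]
    · simp only [Bool.and_eq_true] at h
      obtain ⟨hc, h⟩ := h
      obtain ⟨w₁, h, hw⟩ := eatL_sound S.K_one h
      rw [app_tup' ok] at h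
      obtain ⟨c', b, w', hf, he⟩ := walkT_sound S hprev h _ rfl
      refine ⟨c', b, w', hf, ?_⟩
      rw [← he, hg, Nat.eq_of_beq_eq_true hc, hw, map_mul]
      simp only [← mul_assoc]
      rw [mul_assoc (ι a) _ (lv _), heq, ← mul_assoc]

theorem holds (S : Sound D P ι lv) (hchk : ∀ i, i < D.len → check D P.toTab i = true) :
    ∀ i, i < D.len → Holds D P ι lv i := by
  intro i
  induction i using Nat.strong_induction_on with
  | _ i ih =>
    intro hi
    have hprev : ∀ m, m < i → Holds D P ι lv m := fun m hm => ih m hm (by omega)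
    have h := hchk i hi
    simp only [check] at h
    cases hM : Nat.blt i D.M <;> rw [hM] at h
    · simp only [checkClose, force_eq, gate_eq, Bool.and_eq_true] at h
      obtain ⟨hk, hroot, ok, okI, hinv, h⟩ := h
      have hinv' : P.el (D.lab i) * P.el (D.labI i) = 1 := by
        have e := Nat.eq_of_beq_eq_true hinv
        rw [← P.one, app_tup' ok, app_tup' okI, one_mul] at e
        exact P.inj e
      obtain ⟨tb, htb, hword, hb1⟩ := S.word_eq _ (Nat.ble_eq.mp hk)
      rw [← P.one] at h
      obtain ⟨cur, bb, w, hf, he⟩ := walkT_sound S hprev h _ rfl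
      simp only [Bool.and_eq_true] at hf
      obtain ⟨hcur, hf⟩ := hf
      obtain ⟨w₁, hf, hw⟩ := eatL_sound S.K_one hf
      rw [app_tup' ok] at hf
      obtain ⟨cur', b, w', hf', he'⟩ := walkT_sound S hprev hf _ rfl
      simp only [Bool.and_eq_true] at hf'
      obtain ⟨hc', hnil, ht⟩ := hf'
      obtain rfl := List.isEmpty_iff.1 hnil
      have hbeq : b = tb := P.inj ((Nat.eq_of_beq_eq_true ht).trans htb.symm)
      rw [Nat.eq_of_beq_eq_true hc', hbeq, List.map_nil, List.prod_nil, mul_one] at he'
      rw [Nat.eq_of_beq_eq_true hcur, map_one, one_mul, hw, hword] at he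
      have hcomm : rp D lv (D.at' i) * ι tb = ι tb * rp D lv (D.at' i) := by
        cases hr : D.rootOnly (D.rel i) <;> rw [hr] at hroot
        · rw [hb1 hr, map_one, one_mul, mul_one]
        · have h0 : D.at' i = 0 := Nat.eq_of_beq_eq_true hroot
          rw [h0, rp, one_mul, mul_one]
      rw [hcomm, ← he', map_mul] at he
      refine ⟨ok, okI, hinv', ?_⟩
      simp only [mul_assoc, mul_right_inj] at he
      rw [← mul_assoc, ← mul_assoc] at he
      exact (mul_right_cancel he).symm
    · simp only [checkNew, gate_eq, Bool.and_eq_true] at h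
      obtain ⟨hd, hs, hl, hlI⟩ := h
      have hl : D.lab i % 65536 = 0 := Nat.eq_of_beq_eq_true hl
      have hlI : D.labI i % 65536 = 0 := Nat.eq_of_beq_eq_true hlI
      have el0 : ∀ w, w % 65536 = 0 → P.el w = 1 ∧ P.toTab.okWord w = true := fun w hw => by
        constructor
        · rw [QModel.el, val, hw]; rfl
        · show lettersBelow P.nL (w % 65536) _ = true
          rw [hw]; rfl
      refine ⟨(el0 _ hl).2, (el0 _ hlI).2, by rw [(el0 _ hl).1, (el0 _ hlI).1, one_mul], ?_⟩
      rw [(el0 _ hl).1, map_one, one_mul, Nat.eq_of_beq_eq_true hd]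
      conv_rhs => rw [rp, if_pos (Nat.ble_eq.mp hs)]

/-- A checked walk gives the value of a word. -/
theorem value (S : Sound D P ι lv) (hchk : ∀ i, i < D.len → check D P.toTab i = true)
    {w : List Nat} {n its : Nat} {b : Q} (h : checkValue D P.toTab w n its (P.tup b) = true) :
    (w.map lv).prod = ι b := by
  rw [checkValue, ← P.one] at h
  obtain ⟨cur, b', w', hf, he⟩ := walkT_sound S (holds S hchk) h _ rfl
  simp only [gate_eq, Bool.and_eq_true] at hf
  obtain ⟨hc, hnil, ht⟩ := hf
  obtain rfl := List.isEmpty_iff.1 hnil
  rw [Nat.eq_of_beq_eq_true hc, rp, map_one, one_mul, one_mul, P.inj (Nat.eq_of_beq_eq_true ht)] at he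
  simpa using he

end Track

end Cfsg.Agent.DCoset
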